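import Groth.Agent.Lift75.Closed
import Groth.Agent.Coh69.RelVanish
import Groth.Agent.GSS45.SchemeSS

/-! Open immersions into schemes with local rings of dimension at most one are affine. -/

set_option autoImplicit false
set_option linter.style.haveILetI false
set_option backward.isDefEq.respectTransparency false
universe u

open CategoryTheory CategoryTheory.Limits AlgebraicGeometry TopologicalSpace IsLocalRing
open Groth.Agent.Var76.LineBundle Groth.Agent.Curves2 Groth.Agent.Curves2.Glue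

noncomputable section

namespace Groth.Agent.Lift75

variable {X Y : Scheme.{u}}

theorem exists_nhd_affine (U : X.Opens) [QuasiCompact U.ι] {x : X} (hxU : x ∉ U)
    (hP : {I : Ideal (X.presheaf.stalk x) | I.IsPrime}.Finite) :
    ∃ (W : X.Opens), IsAffineOpen W ∧ x ∈ W ∧ IsAffineOpen (W ⊓ U) := by
  classical
  obtain ⟨W, hW, hxW, -⟩ := exists_isAffineOpen_mem_and_subset (U := (⊤ : X.Opens)) (x := x) trivial
  have : Finite (PrimeSpectrum (X.presheaf.stalk x)) := finite_primeSpectrum hP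
  have := Fintype.ofFinite (PrimeSpectrum (X.presheaf.stalk x))
  let P₁ := Finset.univ.filter fun q : PrimeSpectrum (X.presheaf.stalk x) => X.fromSpecStalk x q ∈ U
  let P₀ := Finset.univ.filter fun q : PrimeSpectrum (X.presheaf.stalk x) => X.fromSpecStalk x q ∉ U
  obtain ⟨t₀, ht₀⟩ : ∃ t₀, ∀ q : PrimeSpectrum (X.presheaf.stalk x),
      t₀ ∈ q.asIdeal ↔ X.fromSpecStalk x q ∉ U := by
    have h1 : ¬ ((∏ q ∈ P₀, q.asIdeal : Ideal (X.presheaf.stalk x)) : Set (X.presheaf.stalk x)) ⊆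
        ⋃ q ∈ (P₁ : Set (PrimeSpectrum (X.presheaf.stalk x))), (q.asIdeal : Set (X.presheaf.stalk x)) := by
      rw [Ideal.subset_union_prime (f := fun q : PrimeSpectrum (X.presheaf.stalk x) => q.asIdeal)
        (closedPoint _) (closedPoint _) fun q _ _ _ => q.2]
      rintro ⟨q, hq, hle⟩
      obtain ⟨p, hp, hpq⟩ := q.2.prod_le.1 hle
      refine (Finset.mem_filter.1 hp).2 ?_
      exact (((PrimeSpectrum.le_iff_specializes p q).1 hpq).map (X.fromSpecStalk x).continuous).mem_open U.2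
        (Finset.mem_filter.1 hq).2
    obtain ⟨t₀, ht₀, ht₁⟩ := Set.not_subset.1 h1
    refine ⟨t₀, fun q => ⟨fun h hqU => ht₁ (Set.mem_biUnion
      (Finset.mem_coe.2 (Finset.mem_filter.2 ⟨Finset.mem_univ _, hqU⟩)) h), fun h => ?_⟩⟩
    exact (Ideal.prod_le_inf.trans (Finset.inf_le (f := fun p : PrimeSpectrum (X.presheaf.stalk x) => p.asIdeal)
      (Finset.mem_filter.2 ⟨Finset.mem_univ _, h⟩) : _ ≤ q.asIdeal)) ht₀
  let : Algebra Γ(X, W) (X.presheaf.stalk x) :=
    TopCat.Presheaf.algebra_section_stalk X.presheaf ⟨x, hxW⟩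
  have := hW.isLocalization_stalk ⟨x, hxW⟩
  obtain ⟨⟨t, b⟩, htb⟩ := IsLocalization.surj (hW.primeIdealOf ⟨x, hxW⟩).asIdeal.primeCompl t₀
  have hb : IsUnit (X.presheaf.germ W x hxW b) := IsLocalization.map_units (X.presheaf.stalk x) b
  change t₀ * X.presheaf.germ W x hxW b = X.presheaf.germ W x hxW t at htb
  have hgen : ∀ y, y ⤳ x → (y ∈ X.basicOpen t ↔ y ∈ U) := by
    intro y hy
    have hyW : y ∈ W := hy.mem_open W.2 hxW
    obtain ⟨q, rfl⟩ : y ∈ Set.range (X.fromSpecStalk x) := by rw [Scheme.range_fromSpecStalk]; exact hy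
    have h1 : X.presheaf.germ W x hxW t ∈ q.asIdeal ↔ X.fromSpecStalk x q ∉ X.basicOpen t := by
      rw [← Ufd.comap_maximalIdeal_stalkSpecializes q hy, Ideal.mem_comap,
        TopCat.Presheaf.germ_stalkSpecializes_apply, IsLocalRing.mem_maximalIdeal, mem_nonunits_iff,
        X.mem_basicOpen t _ hyW]
    have h2 : X.presheaf.germ W x hxW t ∈ q.asIdeal ↔ t₀ ∈ q.asIdeal := by
      rw [← htb]
      exact ⟨fun h => (q.2.mem_or_mem h).resolve_right fun h2 =>
        q.2.ne_top (Ideal.eq_top_of_isUnit_mem _ h2 hb), fun h => Ideal.mul_mem_right _ _ h⟩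
    exact not_iff_not.1 (h1.symm.trans (h2.trans (ht₀ q)))
  let V : X.Opens := W ⊓ U
  have hV : IsCompact (V : Set X) := by
    have h1 := U.ι.isCompact_preimage hW.isCompact
    have h2 := h1.image U.ι.continuous
    rwa [show U.ι '' (U.ι ⁻¹ᵁ W : Set U) = U.ι '' (U.ι ⁻¹' (W : Set X)) from rfl,
      Set.image_preimage_eq_inter_range, Scheme.Opens.range_ι] at h2
  have hloc : ∀ y : V, ∃ g : Γ(X, W), X.basicOpen g ≤ V ∧ y.1 ∈ X.basicOpen g := fun y =>
    hW.exists_basicOpen_le y y.2.1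
  choose g hgV hyg using hloc
  obtain ⟨F, hF⟩ := hV.elim_finite_subcover (fun y : V => (X.basicOpen (g y) : Set X))
    (fun y => (X.basicOpen (g y)).2) fun y hy => Set.mem_iUnion.2 ⟨⟨y, hy⟩, hyg ⟨y, hy⟩⟩
  choose d hxd hd using fun y : V => exists_basicOpen_inter_le hW hxW (g y) (X.basicOpen t)
    fun z hz hzg => (hgen z hz).2 (hgV y hzg).2
  obtain ⟨cU, hxcU, hcU⟩ := exists_basicOpen_inter_le hW hxW t U fun z hz hzt => (hgen z hz).1 hzt
  let C := (∏ y ∈ F, d y) * cU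
  have hxC : x ∈ X.basicOpen C := by
    rw [X.mem_basicOpen _ x hxW, map_mul, map_prod]
    exact IsUnit.mul (IsUnit.prod_iff.2 fun y _ => (X.mem_basicOpen _ x hxW).1 (hxd y))
      ((X.mem_basicOpen _ x hxW).1 hxcU)
  refine ⟨X.basicOpen C, hW.basicOpen _, hxC, ?_⟩
  have he : X.basicOpen C ⊓ U = X.basicOpen (C * t) := by
    rw [X.basicOpen_mul C t]
    refine le_antisymm (fun y hy => ⟨hy.1, ?_⟩) fun y hy => ⟨hy.1, ?_⟩
    · refine hcU ⟨?_, hy.2⟩
      have h1 := hy.1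
      rw [X.basicOpen_mul] at h1
      exact h1.2
    · obtain ⟨z, hz, hyz⟩ := Set.mem_iUnion₂.1 (hF (show y ∈ V from ⟨X.basicOpen_le _ hy.1, hy.2⟩))
      refine hd z ⟨?_, hyz⟩
      have h1 := (X.mem_basicOpen _ y (X.basicOpen_le _ hy.1)).1 hy.1
      rw [map_mul, map_prod, IsUnit.mul_iff, IsUnit.prod_iff] at h1
      exact (X.mem_basicOpen _ y (X.basicOpen_le _ hy.1)).2 (h1.1 z hz)
  rw [he]
  exact hW.basicOpen _

theorem isAffineHom_ι (U : X.Opens) [QuasiCompact U.ι]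
    (hX : ∀ x : X, x ∉ U → IsNoetherianRing (X.presheaf.stalk x) ∧ ringKrullDim (X.presheaf.stalk x) ≤ 1) :
    IsAffineHom U.ι := by
  refine isAffineHom_of_forall_exists_isAffineOpen _ fun x => ?_
  by_cases hxU : x ∈ U
  · obtain ⟨W, hW, hxW, hWU⟩ := exists_isAffineOpen_mem_and_subset hxU
    exact ⟨W, hxW, hW, hW.preimage_of_isOpenImmersion U.ι (by rw [Scheme.Opens.opensRange_ι]; exact hWU)⟩
  · obtain ⟨hN, hd⟩ := hX x hxU
    have : Finite (PrimeSpectrum (X.presheaf.stalk x)) := finite_primeSpectrum_of_dim_le_one _ hd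
    have hP : {I : Ideal (X.presheaf.stalk x) | I.IsPrime}.Finite :=
      (Set.finite_range (fun q : PrimeSpectrum (X.presheaf.stalk x) => q.asIdeal)).subset
        fun I hI => ⟨⟨I, hI⟩, rfl⟩
    obtain ⟨W, hW, hxW, hWU⟩ := exists_nhd_affine U hxU hP
    refine ⟨W, hxW, hW, ?_⟩
    have h := hWU.preimage_of_isOpenImmersion U.ι (by rw [Scheme.Opens.opensRange_ι]; exact inf_le_right)
    rwa [show U.ι ⁻¹ᵁ (W ⊓ U) = U.ι ⁻¹ᵁ W from by
      rw [Scheme.Hom.preimage_inf, Scheme.Opens.ι_preimage_self, inf_top_eq]] at h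

theorem isZero_rpush_of_isAffineHom (f : X ⟶ Y) [IsAffineHom f] [HasInjectiveResolutions X.Modules]
    (M : X.Modules) (hM : Coh.IsQCoh M) (p : ℕ) (hp : 0 < p) : IsZero ((Coh.Rpush f p).obj M) := by
  have : M.IsQuasicoherent := hM
  obtain ⟨n, rfl⟩ : ∃ n, p = n + 1 := ⟨p - 1, by omega⟩
  obtain ⟨e⟩ := GSS45.nonempty_toAb_Rpush f M (n + 1)
  have h := (Coh69.isZero_RpushAb_of_isAffineHom f M n).of_iso e
  rw [IsZero.iff_id_eq_zero]
  exact (SheafOfModules.toSheaf Y.ringCatSheaf).map_injective (h.eq_of_src _ _)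

end Groth.Agent.Lift75

end
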