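import Groth.Agent.Curves2.Glue.UnitLift
import Groth.Agent.Curves2.Glue.Isolated

/-! Lifting invertible modules along finite morphisms to schemes with Noetherian space of dimension `≤ 1`. -/

set_option autoImplicit false
set_option linter.style.haveILetI false
set_option backward.isDefEq.respectTransparency false
universe u

open CategoryTheory AlgebraicGeometry TopologicalSpace IsLocalRing
open Groth.Agent.Var76.LineBundle Groth.Agent.Curves2 Groth.Agent.Curves2.Glue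

noncomputable section

namespace Groth.Agent.Lift75

variable {X Y : Scheme.{u}}

theorem quasiCompact_of_noetherianSpace [NoetherianSpace Y] (V : Y.Opens) : QuasiCompact V.ι :=
  ⟨fun U _ _ => @NoetherianSpace.isCompact _ _
    V.ι.isOpenEmbedding.isEmbedding.isInducing.noetherianSpace _⟩

/-- Finitely many generizations in a Noetherian space of dimension at most one. -/
theorem finite_primes [NoetherianSpace Y] (hdim : topologicalKrullDim Y ≤ 1) (z : Y) :
    {I : Ideal (Y.presheaf.stalk z) | I.IsPrime}.Finite := by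
  have hgen : {y : Y | y ⤳ z}.Finite := by
    have hM : {g : Y | closure ({g} : Set Y) ∈ irreducibleComponents (Y : Type u)}.Finite :=
      Set.Finite.of_finite_image ((NoetherianSpace.finite_irreducibleComponents (α := Y)).subset
        (by rintro _ ⟨g, hg, rfl⟩; exact hg))
        fun a _ b _ h => Inseparable.eq (inseparable_iff_closure_eq.2 h)
    refine (hM.insert z).subset fun y hy => ?_
    by_cases hyz : y = z
    · exact Or.inl hyz
    refine Or.inr ?_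
    obtain ⟨ζ, hζ, hζy⟩ := Ample.exists_maximal y
    have hζ' : ζ = y := by
      by_contra hne
      exact hyz (Eq.symm (((Crv77.isClosed_singleton_of_generalization hdim hζy (Ne.symm hne)).closure_eq).le
        (specializes_iff_mem_closure.1 hy)))
    subst hζ'
    show closure ({ζ} : Set Y) ∈ irreducibleComponents (Y : Type u)
    obtain ⟨C, hC, hζC⟩ := exists_mem_irreducibleComponents_subset_of_isIrreducible _
      (isIrreducible_singleton (x := ζ)).closure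
    obtain ⟨g, hg⟩ := QuasiSober.sober hC.1 (isClosed_of_mem_irreducibleComponents C hC)
    have h1 : g = ζ := hζ g (hg.specializes (hζC (subset_closure rfl)))
    rw [← h1, hg.def]
    exact hC
  have h2 : Finite (Spec (Y.presheaf.stalk z)) := by
    have : Finite {y : Y | y ⤳ z} := hgen.to_subtype
    exact Finite.of_injective (fun q => (⟨Y.fromSpecStalk z q, Scheme.range_fromSpecStalk.le ⟨q, rfl⟩⟩ : {y : Y | y ⤳ z}))
      fun a b h => (Y.fromSpecStalk z).isEmbedding.injective (congrArg (fun t : {y : Y | y ⤳ z} => t.1) h :)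
  have : Finite (PrimeSpectrum (Y.presheaf.stalk z)) := h2
  exact (Set.finite_range (fun q : PrimeSpectrum (Y.presheaf.stalk z) => q.asIdeal)).subset
    fun I hI => ⟨⟨I, hI⟩, rfl⟩

theorem finite_primeSpectrum {R : Type u} [CommRing R] (hP : {I : Ideal R | I.IsPrime}.Finite) :
    Finite (PrimeSpectrum R) :=
  haveI : Finite {I : Ideal R // I.IsPrime} := hP.to_subtype
  Finite.of_equiv _ (PrimeSpectrum.equivSubtype R).symm.toEquiv

theorem exists_nhd_basicOpen (U : X.Opens) [QuasiCompact U.ι]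
    (hdisc : DiscreteTopology ↥((U : Set X)ᶜ)) {x : X} (hxU : x ∉ U)
    (hP : {I : Ideal (X.presheaf.stalk x) | I.IsPrime}.Finite) :
    ∃ (W : X.Opens), IsAffineOpen W ∧ x ∈ W ∧ (∀ y ∈ W, y ∉ U → y = x) ∧
      ∃ t : Γ(X, W), X.basicOpen t = W ⊓ U := by
  classical
  obtain ⟨O, hO, hOx⟩ := isOpen_induced_iff.1 (isOpen_discrete ({⟨x, hxU⟩} : Set ↥((U : Set X)ᶜ)))
  have hxO : x ∈ O := by
    have h1 : (⟨x, hxU⟩ : ↥((U : Set X)ᶜ)) ∈ Subtype.val ⁻¹' O := by rw [hOx]; exact rfl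
    exact h1
  obtain ⟨W, hW, hxW, hWO⟩ := exists_isAffineOpen_mem_and_subset (U := ⟨O, hO⟩) hxO
  have hWx : ∀ y ∈ W, y ∉ U → y = x := fun y hy hyU => by
    have h1 : (⟨y, hyU⟩ : ↥((U : Set X)ᶜ)) ∈ Subtype.val ⁻¹' O := hWO hy
    rw [hOx] at h1
    exact congrArg Subtype.val h1
  let S := hP.toFinset.erase (maximalIdeal (X.presheaf.stalk x))
  obtain ⟨t₀, ht₀, ht₀S⟩ : ∃ t₀ ∈ maximalIdeal (X.presheaf.stalk x), ∀ q ∈ S, t₀ ∉ q := by
    have h1 : ¬ ((maximalIdeal (X.presheaf.stalk x) : Set (X.presheaf.stalk x)) ⊆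
        ⋃ q ∈ (S : Set (Ideal (X.presheaf.stalk x))), (q : Set (X.presheaf.stalk x))) := by
      rw [Ideal.subset_union_prime (f := fun q => q) ⊥ ⊥ fun q hq _ _ =>
        (Set.Finite.mem_toFinset _).1 (Finset.mem_of_mem_erase hq)]
      rintro ⟨q, hq, hmq⟩
      have hqP : q.IsPrime := (Set.Finite.mem_toFinset _).1 (Finset.mem_of_mem_erase hq)
      exact Finset.ne_of_mem_erase hq
        (((maximalIdeal.isMaximal _).eq_of_le hqP.ne_top hmq).symm)
    obtain ⟨t₀, ht₀, ht₁⟩ := Set.not_subset.1 h1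
    exact ⟨t₀, ht₀, fun q hq h2 => ht₁ (Set.mem_biUnion (Finset.mem_coe.2 hq) h2)⟩
  have hmax : ∀ q : PrimeSpectrum (X.presheaf.stalk x), t₀ ∈ q.asIdeal →
      q = closedPoint (X.presheaf.stalk x) := by
    intro q hq
    refine PrimeSpectrum.ext ?_
    by_contra hne
    exact ht₀S _ (Finset.mem_erase.2 ⟨hne, (Set.Finite.mem_toFinset _).2 q.2⟩) hq
  let : Algebra Γ(X, W) (X.presheaf.stalk x) :=
    TopCat.Presheaf.algebra_section_stalk X.presheaf ⟨x, hxW⟩
  have := hW.isLocalization_stalk ⟨x, hxW⟩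
  obtain ⟨⟨t, b⟩, htb⟩ := IsLocalization.surj (hW.primeIdealOf ⟨x, hxW⟩).asIdeal.primeCompl t₀
  have hb : IsUnit (X.presheaf.germ W x hxW b) := IsLocalization.map_units (X.presheaf.stalk x) b
  change t₀ * X.presheaf.germ W x hxW b = X.presheaf.germ W x hxW t at htb
  have hxt : x ∉ X.basicOpen t := fun h1 => by
    rw [X.mem_basicOpen t x hxW, ← htb] at h1
    exact (IsLocalRing.mem_maximalIdeal _).1 ht₀ (isUnit_of_mul_isUnit_left h1)
  have hgen : ∀ y, y ⤳ x → y ≠ x → y ∈ X.basicOpen t := by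
    intro y hy hne
    have hyW : y ∈ W := hy.mem_open W.2 hxW
    obtain ⟨q, rfl⟩ : y ∈ Set.range (X.fromSpecStalk x) := by rw [Scheme.range_fromSpecStalk]; exact hy
    by_contra hyt
    refine hne ?_
    rw [hmax q ?_, Scheme.fromSpecStalk_closedPoint]
    have h1 : X.presheaf.germ W x hxW t ∈ q.asIdeal := by
      rw [← Ufd.comap_maximalIdeal_stalkSpecializes q hy, Ideal.mem_comap,
        TopCat.Presheaf.germ_stalkSpecializes_apply, IsLocalRing.mem_maximalIdeal, mem_nonunits_iff]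
      exact fun h2 => hyt ((X.mem_basicOpen t _ hyW).2 h2)
    rw [← htb] at h1
    exact (q.2.mem_or_mem h1).resolve_right fun h2 =>
      q.2.ne_top (Ideal.eq_top_of_isUnit_mem _ h2 hb)
  let V : X.Opens := W ⊓ U
  have hV : IsCompact (V : Set X) := by
    have h1 := U.ι.isCompact_preimage hW.isCompact
    have h2 := h1.image U.ι.continuous
    rwa [show U.ι '' (U.ι ⁻¹ᵁ W : Set U) = U.ι '' (U.ι ⁻¹' (W : Set X)) from rfl,
      Set.image_preimage_eq_inter_range, Scheme.Opens.range_ι] at h2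
  have hloc : ∀ y : V, ∃ g : Γ(X, W), X.basicOpen g ≤ V ∧ y.1 ∈ X.basicOpen g := fun y =>
    hW.exists_basicOpen_le y y.2.1
  choose g hgV hyg using hloc
  obtain ⟨F, hF⟩ := hV.elim_finite_subcover (fun y : V => (X.basicOpen (g y) : Set X))
    (fun y => (X.basicOpen (g y)).2) fun y hy => Set.mem_iUnion.2 ⟨⟨y, hy⟩, hyg ⟨y, hy⟩⟩
  choose c hxc hc using fun y : V => exists_basicOpen_inter_le hW hxW (g y) (X.basicOpen t)
    fun z hz hzg => hgen z hz fun hzx => hxU (hzx ▸ (hgV y hzg).2)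
  have hxC : x ∈ X.basicOpen (∏ y ∈ F, c y) := by
    rw [X.mem_basicOpen _ x hxW, map_prod, IsUnit.prod_iff]
    exact fun y _ => (X.mem_basicOpen _ x hxW).1 (hxc y)
  have hle : X.basicOpen (∏ y ∈ F, c y) ≤ W := X.basicOpen_le _
  refine ⟨_, hW.basicOpen _, hxC, fun y hy hyU => hWx y (hle hy) hyU,
    X.presheaf.map (homOfLE hle).op t, le_antisymm (fun y hy => ?_) fun y hy => ?_⟩
  · rw [Scheme.basicOpen_res] at hy
    refine ⟨hy.1, ?_⟩
    by_contra hyU
    exact hxt (hWx y (hle hy.1) hyU ▸ hy.2)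
  · rw [Scheme.basicOpen_res]
    refine ⟨hy.1, ?_⟩
    obtain ⟨z, hz, hyz⟩ := Set.mem_iUnion₂.1 (hF (show y ∈ V from ⟨hle hy.1, hy.2⟩))
    refine hc z ⟨?_, hyz⟩
    have h1 := (X.mem_basicOpen _ y (hle hy.1)).1 hy.1
    rw [map_prod, IsUnit.prod_iff] at h1
    exact (X.mem_basicOpen _ y (hle hy.1)).2 (h1 z hz)


theorem exists_dense_frame (f : X ⟶ Y) [IsFinite f] [NoetherianSpace Y]
    (hdim : topologicalKrullDim Y ≤ 1) (V : Y.Opens) (hV : Dense (V : Set Y))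
    {L : X.Modules} (hL : PicF.IsInvertible L) :
    ∃ V' : Y.Opens, V' ≤ V ∧ (∀ x : Y, (∀ x', x' ⤳ x → x' = x) → x ∈ V') ∧
      DiscreteTopology ↥((V' : Set Y)ᶜ) ∧ ∃ e : Γ(L, f ⁻¹ᵁ V'), IsFrame L (f ⁻¹ᵁ V') e := by
  classical
  let M : Set Y := {x | ∀ x', x' ⤳ x → x' = x}
  have hM : M.Finite := by
    refine Set.Finite.of_finite_image (f := fun x : Y => closure ({x} : Set Y)) ?_ fun a _ b _ h =>
      Inseparable.eq (inseparable_iff_closure_eq.2 h)
    refine (NoetherianSpace.finite_irreducibleComponents (α := Y)).subset ?_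
    rintro _ ⟨x, hx, rfl⟩
    obtain ⟨C, hC, hxC⟩ := exists_mem_irreducibleComponents_subset_of_isIrreducible _
      (isIrreducible_singleton (x := x)).closure
    obtain ⟨g, hg⟩ := QuasiSober.sober hC.1 (isClosed_of_mem_irreducibleComponents C hC)
    have h1 : g = x := hx g (hg.specializes (hxC (subset_closure rfl)))
    show closure ({x} : Set Y) ∈ irreducibleComponents _
    rw [← h1, hg.def]
    exact hC
  haveI : Finite M := hM.to_subtype
  let O : M → Y.Opens := fun η =>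
    ⟨(⋃ ζ ∈ {ζ : M | ζ ≠ η}, closure ({ζ.1} : Set Y))ᶜ,
      ((Set.toFinite _).isClosed_biUnion fun _ _ => isClosed_closure).isOpen_compl⟩
  have hOmem : ∀ (η : M) (y : Y), y ∈ O η → ∀ ζ : M, ζ.1 ⤳ y → ζ = η := fun η y hy ζ hζ => by
    by_contra hne
    exact hy (Set.mem_biUnion hne (specializes_iff_mem_closure.1 hζ))
  have hηO : ∀ η : M, η.1 ∈ O η := fun η h => by
    obtain ⟨ζ, hζ, h1⟩ := Set.mem_iUnion₂.1 h
    exact hζ (Subtype.ext (η.2 _ (specializes_iff_mem_closure.2 h1)))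
  have hηV : ∀ η : M, η.1 ∈ V := fun η => by
    obtain ⟨y, hyO, hyV⟩ := hV.inter_open_nonempty _ (O η).2 ⟨η.1, hηO η⟩
    obtain ⟨ζ, hζ, hζy⟩ := Ample.exists_maximal y
    exact ((hOmem η y hyO ⟨ζ, hζ⟩ hζy) ▸ hζy : η.1 ⤳ y).mem_open V.2 hyV
  choose W hW hWle hηW l hl using fun η : M =>
    exists_nhd_frame_finite f hL η.1 (V ⊓ O η) ⟨hηV η, hηO η⟩
  obtain ⟨e, he⟩ := exists_frame_of_disjoint (fun η => f ⁻¹ᵁ W η) (fun η θ hne z hz => by
      obtain ⟨ζ, hζ, hζz⟩ := Ample.exists_maximal (f z)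
      exact (hne ((hOmem η _ (hWle η hz.1).2 ⟨ζ, hζ⟩ hζz).symm.trans
        (hOmem θ _ (hWle θ hz.2).2 ⟨ζ, hζ⟩ hζz))).elim)
    l hl (f ⁻¹ᵁ ⨆ η, W η) (f.preimage_iSup W)
  have hmax : ∀ x : Y, (∀ x', x' ⤳ x → x' = x) → x ∈ ⨆ η, W η := fun x hx =>
    Opens.mem_iSup.2 ⟨⟨x, hx⟩, hηW _⟩
  refine ⟨⨆ η, W η, iSup_le fun η => (hWle η).trans inf_le_left, hmax, ?_, e, he⟩
  have hgen : ∀ z ∈ ((⨆ η, W η : Y.Opens) : Set Y)ᶜ, ∃ ζ, ζ ⤳ z ∧ z ≠ ζ := fun z hz => by
    obtain ⟨ζ, hζ, hζz⟩ := Ample.exists_maximal z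
    exact ⟨ζ, hζz, fun h => hz (h ▸ hmax ζ hζ)⟩
  have hfin := Crv77.finite_of_isClosed hdim (⨆ η, W η : Y.Opens).2.isClosed_compl hgen
  haveI : Finite ↥(((⨆ η, W η : Y.Opens) : Set Y)ᶜ) := hfin.to_subtype
  haveI : T1Space ↥(((⨆ η, W η : Y.Opens) : Set Y)ᶜ) := ⟨fun z => by
    obtain ⟨ζ, hζz, hne⟩ := hgen z.1 z.2
    have h1 := (Crv77.isClosed_singleton_of_generalization hdim hζz hne).preimage
      (continuous_subtype_val : Continuous (Subtype.val : ↥(((⨆ η, W η : Y.Opens) : Set Y)ᶜ) → Y))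
    have h2 : (Subtype.val ⁻¹' {z.1} : Set ↥(((⨆ η, W η : Y.Opens) : Set Y)ᶜ)) = {z} := by
      ext; simp [Subtype.ext_iff]
    exact h2 ▸ h1⟩
  infer_instance


theorem exists_near {X Y : Scheme.{u}} (f : X ⟶ Y) [IsFinite f] [NoetherianSpace Y]
    (hdim : topologicalKrullDim Y ≤ 1) (V V' : Y.Opens) (hle : V' ≤ V) (hfV : IsClosedImmersion (f ∣_ V))
    (hdisc : DiscreteTopology ↥((V' : Set Y)ᶜ)) {L : X.Modules} (hL : PicF.IsInvertible L)
    (e : Γ(L, f ⁻¹ᵁ V')) (he : IsFrame L (f ⁻¹ᵁ V') e) (z : Y) (hz : z ∉ V') :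
    ∃ W : Y.Opens, z ∈ W ∧ (∀ y ∈ W, y ∉ V' → y = z) ∧ ∃ (u : Γ(Y, W ⊓ V')) (l : Γ(L, f ⁻¹ᵁ W)),
      IsUnit u ∧ IsFrame L (f ⁻¹ᵁ W) l ∧
      f.app (W ⊓ V') u • res L (f.preimage_mono inf_le_right) e = res L (f.preimage_mono inf_le_left) l := by
  have hP := finite_primes hdim z
  have : QuasiCompact V'.ι := quasiCompact_of_noetherianSpace V'
  obtain ⟨W₀, hW₀, hzW₀, hW₀z, t, ht⟩ := exists_nhd_basicOpen V' hdisc hz hP
  obtain ⟨W₁, -, hW₁₀, hzW₁, l₁, hl₁⟩ := exists_nhd_frame_finite f hL z W₀ hzW₀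
  obtain ⟨s, hsW₁, hzs⟩ := hW₀.exists_basicOpen_le ⟨z, hzW₁⟩ hzW₀
  let W₂ := Y.basicOpen s
  have hW₂ : IsAffineOpen W₂ := hW₀.basicOpen s
  have hW₂₀ : W₂ ≤ W₀ := Y.basicOpen_le s
  let t₂ : Γ(Y, W₂) := Y.presheaf.map (homOfLE hW₂₀).op t
  have hA : IsAffineOpen (Y.basicOpen t₂) := hW₂.basicOpen t₂
  have ht₂ : Y.basicOpen t₂ = W₂ ⊓ V' := by
    show Y.basicOpen (Y.presheaf.map (homOfLE hW₂₀).op t) = _
    rw [Scheme.basicOpen_res, ht, ← inf_assoc, inf_eq_left.2 hW₂₀]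
  have hAV : Y.basicOpen t₂ ≤ V' := ht₂.le.trans inf_le_right
  have hA₁ : Y.basicOpen t₂ ≤ W₁ := (ht₂.le.trans inf_le_left).trans hsW₁
  obtain ⟨c, hc⟩ := (he (f ⁻¹ᵁ Y.basicOpen t₂) (f.preimage_mono hAV)).2 (res L (f.preimage_mono hA₁) l₁)
  dsimp only at hc
  have hcu : IsUnit c := (Amp73.isFrame_smul_iff (he.res (f.preimage_mono hAV)) c).1
    (by rw [hc]; exact hl₁.res _)
  let F : Set ↥(Y.basicOpen t₂) := {y | y.1 ⤳ z}
  have hF : F.Finite := by
    haveI : Finite (Spec (Y.presheaf.stalk z)) := finite_primeSpectrum hP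
    refine Set.Finite.of_finite_image ((Set.finite_range (Y.fromSpecStalk z)).subset ?_)
      Subtype.val_injective.injOn
    rintro _ ⟨y, hy, rfl⟩
    exact Scheme.range_fromSpecStalk.ge hy
  obtain ⟨u₀, hu₀, hu₀F⟩ := exists_unit_lift f hA
    (surjective_app_of_closedImmersion f V hfV hA (hAV.trans hle)) c hcu F hF
  obtain ⟨a, hza, ha⟩ := exists_basicOpen_inter_le hW₂ hzs t₂ (Y.basicOpen u₀)
    fun y hy hyt => hu₀F ⟨y, hyt⟩ hy
  have haW : Y.basicOpen a ≤ W₂ := Y.basicOpen_le a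
  have hU : Y.basicOpen a ⊓ V' ≤ Y.basicOpen u₀ := fun y hy =>
    ha ⟨hy.1, ht₂.ge ⟨haW hy.1, hy.2⟩⟩
  have hUA : Y.basicOpen a ⊓ V' ≤ Y.basicOpen t₂ := hU.trans (Y.basicOpen_le u₀)
  refine ⟨Y.basicOpen a, hza, fun y hy hyV => hW₀z y (hW₂₀ (haW hy)) hyV,
    Y.presheaf.map (homOfLE hUA).op u₀, res L (f.preimage_mono (haW.trans hsW₁)) l₁, ?_, hl₁.res _, ?_⟩
  · have h1 : IsUnit (Y.presheaf.map (homOfLE (Y.basicOpen_le u₀)).op u₀) :=
      RingedSpace.isUnit_res_basicOpen Y.toRingedSpace u₀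
    have h2 := h1.map (Y.presheaf.map (homOfLE hU).op).hom
    rw [show (Y.presheaf.map (homOfLE hU).op).hom (Y.presheaf.map (homOfLE (Y.basicOpen_le u₀)).op u₀) =
      Y.presheaf.map (homOfLE hUA).op u₀ from map_map_fn _ _ _] at h2
    exact h2
  · have h := congrArg (res L (f.preimage_mono hUA)) hc
    rw [res_smul, res_res, res_res] at h
    rw [res_res, ← h]
    refine congrArg (· • _) ?_
    rw [← hu₀]
    exact ConcreteCategory.congr_hom (f.naturality (homOfLE hUA).op) u₀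



theorem exists_lift {X Y : Scheme.{u}} (f : X ⟶ Y)
    [IsFinite f] [NoetherianSpace Y] (hdim : topologicalKrullDim Y ≤ 1)
    (V : Y.Opens) (hV : Dense (V : Set Y)) (hfV : IsClosedImmersion (f ∣_ V))
    (L : X.Modules) (hL : PicF.IsInvertible L) :
    ∃ N : Y.Modules, PicF.IsInvertible N ∧ Nonempty ((Scheme.Modules.pullback f).obj N ≅ L) := by
  obtain ⟨V', hle, -, hdisc, e, he⟩ := exists_dense_frame f hdim V hV hL
  choose W hzW hWz u l hu hl hul using fun i : {y : Y // y ∉ V'} =>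
    exists_near f hdim V V' hle hfV hdisc hL e he i.1 i.2
  refine exists_descent f L V' (Coh.structureModule Y) (fun y hy => ?_)
    (fun O hO a => f.app O a • res L (f.preimage_mono hO) e) (fun O O' hO hO' h a => ?_)
    (fun O hO c a => ?_) (fun O hO a ha => ?_) W (fun i j hij y hy => ?_) (fun y => ?_) u
    (fun i => ?_) l hl hul
  · exact ⟨V', le_rfl, hy, _, Amp73.isFrame_one V'⟩
  · rw [res_smul, res_res]
    exact congrArg (· • _) (ConcreteCategory.congr_hom (f.naturality (homOfLE h).op) a)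
  · show f.app O (c * (show Γ(Y, O) from a)) • _ = _
    rw [map_mul, mul_smul]
  · refine (Amp73.isFrame_smul_iff (he.res _) _).2 (IsUnit.map (f.app O).hom ?_)
    obtain ⟨b, hb⟩ := (ha O le_rfl).2 (1 : Γ(Y, O))
    dsimp only at hb
    rw [Amp73.res_self] at hb
    exact IsUnit.of_mul_eq_one_right b hb
  · by_contra hyV
    exact hij (Subtype.ext ((hWz i y hy.1 hyV).symm.trans (hWz j y hy.2 hyV)))
  · exact or_iff_not_imp_left.2 fun hy => ⟨⟨y, hy⟩, hzW _⟩
  · have h1 := (Amp73.isFrame_smul_iff (Amp73.isFrame_one (W i ⊓ V')) (u i)).2 (hu i)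
    have h2 : u i • ((1 : Γ(Y, W i ⊓ V')) : Γ(Coh.structureModule Y, W i ⊓ V')) = u i := mul_one _
    exact h2 ▸ h1


end Groth.Agent.Lift75

end
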