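import Groth.Agent.SchLoc58.Allied
import Groth.Agent.VarDim1.Semilocal
import Groth.Agent.VarDim1.Glue
import Groth.Agent.Crv77.PointTwist
import Groth.Agent.S7669

/-! A globally generated invertible module with prescribed affine non-vanishing locus. -/

set_option autoImplicit false
set_option linter.style.haveILetI false
set_option backward.isDefEq.respectTransparency false
universe u

open CategoryTheory CategoryTheory.Limits AlgebraicGeometry TopologicalSpace IsLocalRing
open Groth.Agent.Var76.LineBundle Groth.Agent.Curves2 Groth.Agent.Curves2.Glue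

noncomputable section

namespace Groth.Agent.Lift75

theorem range_le_of_centre {K R S : Type u} [Field K] [CommRing R] [CommRing S] [Algebra R S] [IsLocalRing S]
    (O : ValuationSubring K) (f : S →+* K) (hf : Function.Injective f) (P : Ideal R) [P.IsPrime]
    [IsLocalization.AtPrime S P] (hR : ∀ r, f (algebraMap R S r) ∈ O)
    (hP : ∀ r, r ∈ P ↔ f (algebraMap R S r) ∈ O.nonunits) :
    LocalSubring.range f ≤ O.toLocalSubring := by
  have hunit : ∀ s : P.primeCompl, (f (algebraMap R S s))⁻¹ ∈ O := fun s => by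
    have h := mt (hP s).2 s.2
    rw [ValuationSubring.mem_nonunits_iff_or, not_or, not_not] at h
    exact h.2
  have hmem : ∀ x : S, f x ∈ O := by
    intro x
    obtain ⟨r, s, rfl⟩ := IsLocalization.exists_mk'_eq P.primeCompl x
    have h : f (IsLocalization.mk' S r s) * f (algebraMap R S s) = f (algebraMap R S r) := by
      rw [← map_mul, IsLocalization.mk'_spec]
    have hs : f (algebraMap R S s) ≠ 0 := fun e => (IsLocalization.map_units S s).ne_zero
      (hf (e.trans (map_zero f).symm))
    rw [(eq_mul_inv_iff_mul_eq₀ hs).2 h]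
    exact O.mul_mem _ _ (hR r) (hunit s)
  refine ⟨fun _ ⟨x, hx⟩ => hx ▸ hmem x, ⟨?_⟩⟩
  rintro ⟨_, x, rfl⟩ hu
  have hux : IsUnit x := by
    by_contra hx
    obtain ⟨r, s, rfl⟩ := IsLocalization.exists_mk'_eq P.primeCompl x
    have hr : r ∈ P := by
      by_contra hr
      exact hx (IsLocalization.AtPrime.isUnit_mk'_iff S P r s |>.2 hr)
    obtain ⟨⟨v, hv⟩, hv1⟩ := isUnit_iff_exists_inv.1 hu
    have hv2 : f (IsLocalization.mk' S r s) * v = 1 := congrArg Subtype.val hv1
    have h3 := (ValuationSubring.mem_nonunits_iff_or (A := O)).1 ((hP r).1 hr)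
    rcases h3 with h3 | h3
    · have h0 : algebraMap R S r = 0 := hf (h3.trans (map_zero f).symm)
      have : IsLocalization.mk' S r s = 0 := by rw [IsLocalization.mk'_eq_mul_mk'_one, h0, zero_mul]
      rw [this, map_zero, zero_mul] at hv2
      exact zero_ne_one hv2
    · refine h3 ?_
      have h : f (IsLocalization.mk' S r s) * f (algebraMap R S s) = f (algebraMap R S r) := by
        rw [← map_mul, IsLocalization.mk'_spec]
      rw [← h, mul_inv, show (f (IsLocalization.mk' S r s))⁻¹ = v from (eq_inv_of_mul_eq_one_right hv2).symm]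
      exact O.mul_mem _ _ hv (hunit s)
  exact hux.map f.rangeRestrict

variable {X : Scheme.{u}} [IsIntegral X]

/-- Outside an affine open of a separated integral scheme, the local ring and the sections on the open
generate the function field. -/
theorem sup_eq_top [X.IsSeparated] {U : X.Opens} (hU : IsAffineOpen U) [Nonempty U] {x : X} (hx : x ∉ U)
    [IsNoetherianRing (X.presheaf.stalk x)] (hdim : ringKrullDim (X.presheaf.stalk x) = 1) :
    (X.germToFunctionField U).hom.range ⊔ (algebraMap (X.presheaf.stalk x) X.functionField).range = ⊤ := by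
  set Bs := (algebraMap (X.presheaf.stalk x) X.functionField).range
  set A := (X.germToFunctionField U).hom.range
  let eB : X.presheaf.stalk x ≃+* Bs := RingEquiv.ofBijective (algebraMap (X.presheaf.stalk x) X.functionField).rangeRestrict
    ⟨fun a b h => IsFractionRing.injective _ _ (congrArg Subtype.val h), RingHom.rangeRestrict_surjective _⟩
  have : IsNoetherianRing Bs := isNoetherianRing_of_ringEquiv _ eB
  have : IsLocalRing Bs := eB.isLocalRing
  have hfr : IsFractionRing Bs X.functionField := IsFractionRing.of_field _ _ fun z => by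
    obtain ⟨a, b, hb, rfl⟩ := IsFractionRing.div_surjective (A := X.presheaf.stalk x) z
    exact ⟨eB a, eB b, rfl⟩
  have hdimB : ringKrullDim Bs = 1 := (ringKrullDim_eq_of_ringEquiv eB).symm.trans hdim
  by_contra hne
  obtain ⟨O, hO, hBO, hAO⟩ := VarDim1.exists_dvr_of_sup_ne_top Bs A hdimB (by rwa [sup_comm])
  have hOne := VarDim1.ne_top_of_isDiscreteValuationRing O
  have hxQ : LocalSubring.range (algebraMap (X.presheaf.stalk x) X.functionField) ≤ O.toLocalSubring := by
    let φ : X.presheaf.stalk x →+* O :=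
      (algebraMap (X.presheaf.stalk x) X.functionField).codRestrict O fun a => hBO ⟨a, rfl⟩
    have hc : (maximalIdeal O).comap φ = maximalIdeal (X.presheaf.stalk x) := by
      have : Ring.KrullDimLE 1 (X.presheaf.stalk x) := VarDim1.krullDimLE_one_of_eq hdim
      by_cases h0 : (maximalIdeal O).comap φ = ⊥
      · refine absurd ?_ hOne
        refine VarDim1.eq_top_of_forall_inv Bs O.toSubring hBO fun b hb => ?_
        obtain ⟨a, ha⟩ := b.2
        have hu : IsUnit (φ a) := by
          by_contra hn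
          have : a ∈ (maximalIdeal O).comap φ := (mem_maximalIdeal _).2 hn
          rw [h0, Ideal.mem_bot] at this
          exact hb (Subtype.ext (ha.symm.trans (by rw [this, map_zero]; rfl)))
        obtain ⟨v, hv⟩ := isUnit_iff_exists_inv.1 hu
        rw [← ha, show (algebraMap (X.presheaf.stalk x) X.functionField a)⁻¹ = (v : X.functionField) from
          (eq_inv_of_mul_eq_one_right (congrArg Subtype.val hv)).symm]
        exact v.2
      · exact IsLocalRing.eq_maximalIdeal ((Ideal.comap_isPrime φ _).isMaximal_of_ne_bot h0)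
    have : IsLocalization.AtPrime (X.presheaf.stalk x) (maximalIdeal (X.presheaf.stalk x)) :=
      IsLocalization.self fun s hs => by
        by_contra hn
        exact hs ((mem_maximalIdeal _).2 hn)
    refine range_le_of_centre (R := X.presheaf.stalk x) O _ (IsFractionRing.injective _ _)
      (maximalIdeal (X.presheaf.stalk x)) (fun a => hBO ⟨a, rfl⟩) fun a => ?_
    rw [← hc, Ideal.mem_comap, ← ValuationSubring.coe_mem_nonunits_iff]
    rfl
  let ψ : Γ(X, U) →+* O := (X.germToFunctionField U).hom.codRestrict O fun a => hAO ⟨a, rfl⟩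
  let q : PrimeSpectrum Γ(X, U) := ⟨(maximalIdeal O).comap ψ, Ideal.comap_isPrime _ _⟩
  let y := hU.fromSpec q
  have hy : y ∈ U := hU.range_fromSpec.le ⟨q, rfl⟩
  let : Algebra Γ(X, U) (X.presheaf.stalk y) := TopCat.Presheaf.algebra_section_stalk X.presheaf ⟨y, hy⟩
  have := hU.isLocalization_stalk' q hy
  have hyQ : LocalSubring.range (algebraMap (X.presheaf.stalk y) X.functionField) ≤ O.toLocalSubring := by
    refine range_le_of_centre (R := Γ(X, U)) O _ (IsFractionRing.injective _ _) q.asIdeal
      (fun a => ?_) fun a => ?_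
    · show algebraMap _ X.functionField (X.presheaf.germ U y hy a) ∈ O
      rw [X.algebraMap_germ_eq_germToFunctionField hy a]
      exact hAO ⟨a, rfl⟩
    · show a ∈ (maximalIdeal O).comap ψ ↔ algebraMap _ X.functionField (X.presheaf.germ U y hy a) ∈ O.nonunits
      rw [X.algebraMap_germ_eq_germToFunctionField hy a, Ideal.mem_comap,
        ← ValuationSubring.coe_mem_nonunits_iff]
      rfl
  exact hx ((SchLoc58.eq_of_le_localSubring hxQ hyQ).symm ▸ hy)

omit [IsIntegral X] in
theorem quasiCompact_ι [X.IsSeparated] {U : X.Opens} (hU : IsAffineOpen U) : QuasiCompact U.ι := by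
  refine ⟨fun V hVo hV => ?_⟩
  rw [U.ι.isOpenEmbedding.isInducing.isCompact_iff, Set.image_preimage_eq_inter_range, Scheme.Opens.range_ι]
  exact QuasiSeparatedSpace.inter_isCompact _ _ hVo hV U.2 hU.isCompact

/-- A function on `U` with a pole at every point outside. -/
theorem exists_pole [X.IsSeparated] {U : X.Opens} (hU : IsAffineOpen U) [Nonempty U]
    (hfin : ((U : Set X)ᶜ).Finite)
    (hloc : ∀ x : X, x ∉ U → IsNoetherianRing (X.presheaf.stalk x) ∧ ringKrullDim (X.presheaf.stalk x) = 1) :
    ∃ f : Γ(X, U), X.germToFunctionField U f ≠ 0 ∧ ∀ x : X, x ∉ U → ∃ g ∈ maximalIdeal (X.presheaf.stalk x),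
      algebraMap (X.presheaf.stalk x) X.functionField g = (X.germToFunctionField U f)⁻¹ := by
  have : Finite {x : X // x ∉ U} := hfin.to_subtype
  let B : {x : X // x ∉ U} → Subring X.functionField := fun x =>
    (algebraMap (X.presheaf.stalk x.1) X.functionField).range
  let eB : ∀ x : {x : X // x ∉ U}, X.presheaf.stalk x.1 ≃+* B x := fun x =>
    RingEquiv.ofBijective (algebraMap (X.presheaf.stalk x.1) X.functionField).rangeRestrict
    ⟨fun a b h => IsFractionRing.injective _ _ (congrArg Subtype.val h), RingHom.rangeRestrict_surjective _⟩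
  have : ∀ x, IsNoetherianRing (B x) := fun x =>
    have := (hloc _ x.2).1
    isNoetherianRing_of_ringEquiv _ (eB x)
  have : ∀ x, IsFractionRing (B x) X.functionField := fun x => IsFractionRing.of_field _ _ fun z => by
    obtain ⟨a, b, hb, rfl⟩ := IsFractionRing.div_surjective (A := X.presheaf.stalk x.1) z
    exact ⟨eB x a, eB x b, rfl⟩
  have hl : ∀ x, IsLocalRing (B x) := fun x => (eB x).isLocalRing
  obtain ⟨z, ⟨f, rfl⟩, hz0, hz⟩ := VarDim1.exists_inv_mem_jacobson (X.germToFunctionField U).hom.range B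
    (fun x => (ringKrullDim_eq_of_ringEquiv (eB x)).symm.trans (hloc _ x.2).2)
    (fun x => by
      have := hl x
      exact Finite.of_injective (fun m : MaximalSpectrum (B x) => ()) fun a b _ => MaximalSpectrum.ext
        ((IsLocalRing.eq_maximalIdeal a.isMaximal).trans (IsLocalRing.eq_maximalIdeal b.isMaximal).symm))
    (fun x => have := (hloc _ x.2).1; sup_eq_top hU x.2 (hloc _ x.2).2)
  refine ⟨f, hz0, fun x hx => ?_⟩
  obtain ⟨hmem, hj⟩ := hz ⟨x, hx⟩
  obtain ⟨g, hg⟩ := hmem
  refine ⟨g, ?_, hg⟩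
  have := hl ⟨x, hx⟩
  rw [mem_maximalIdeal, mem_nonunits_iff]
  intro hu
  rw [IsLocalRing.jacobson_eq_maximalIdeal _ bot_ne_top, mem_maximalIdeal, mem_nonunits_iff] at hj
  exact hj ((show eB ⟨x, hx⟩ g = ⟨_, ⟨g, hg⟩⟩ from Subtype.ext hg) ▸ hu.map (eB ⟨x, hx⟩))

set_option maxHeartbeats 2000000 in
/-- The globally generated module. -/
theorem exists_gg_genLocus [X.IsSeparated] {U : X.Opens} (hU : IsAffineOpen U) (hne : (U : Set X).Nonempty)
    (hfin : ((U : Set X)ᶜ).Finite)
    (hloc : ∀ x : X, x ∉ U → IsNoetherianRing (X.presheaf.stalk x) ∧ ringKrullDim (X.presheaf.stalk x) = 1) :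
    ∃ (L : X.Modules) (s : Coh.structureModule X ⟶ L), PicF.IsInvertible L ∧ Curv2.IsGloballyGenerated L ∧
      CohB1.genLocus L s = U := by
  classical
  have : Nonempty U := hne.to_subtype
  have : QuasiCompact U.ι := quasiCompact_ι hU
  have : CompactSpace X := ⟨by
    have h := hU.isCompact.union hfin.isCompact
    rwa [Set.union_compl_self] at h⟩
  have hcl : ∀ y ∈ ((U : Set X)ᶜ), IsClosed ({y} : Set X) := by
    intro y hy
    rw [← closure_subset_iff_isClosed]
    intro z hz
    have hzy : y ⤳ z := specializes_iff_mem_closure.2 hz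
    have hzU : z ∉ U := fun h => hy (hzy.mem_open U.2 h)
    obtain ⟨q, hq⟩ : y ∈ Set.range (X.fromSpecStalk z) := by rw [Scheme.range_fromSpecStalk]; exact hzy
    have : Ring.KrullDimLE 1 (X.presheaf.stalk z) := VarDim1.krullDimLE_one_of_eq (hloc z hzU).2
    by_cases hq0 : q.asIdeal = ⊥
    · exfalso
      refine hy ?_
      have hqη : q ⤳ q := specializes_rfl
      obtain ⟨η, hη⟩ := hne
      have h1 : genericPoint X ∈ U := ((genericPoint_spec X).specializes trivial).mem_open U.2 hη
      have h2 : X.fromSpecStalk z q = genericPoint X := by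
        refine (Specializes.antisymm ?_ (genericPoint_specializes _)).eq
        obtain ⟨p, hp⟩ : genericPoint X ∈ Set.range (X.fromSpecStalk z) := by
          rw [Scheme.range_fromSpecStalk]; exact genericPoint_specializes z
        rw [← hp]
        exact ((PrimeSpectrum.le_iff_specializes q p).1 (show q.asIdeal ≤ p.asIdeal by rw [hq0]; exact bot_le)).map
          (X.fromSpecStalk z).continuous
      rw [← hq, h2]; exact h1
    · have : q = closedPoint _ := PrimeSpectrum.ext (IsLocalRing.eq_maximalIdeal (q.2.isMaximal_of_ne_bot hq0))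
      rw [← hq, this, Scheme.fromSpecStalk_closedPoint]
      rfl
  have hdisc : DiscreteTopology ↥((U : Set X)ᶜ) := by
    have : Finite ↥((U : Set X)ᶜ) := hfin.to_subtype
    have : T1Space ↥((U : Set X)ᶜ) := ⟨fun z => by
      have h1 := (hcl z.1 z.2).preimage (continuous_subtype_val : Continuous (Subtype.val : ↥((U : Set X)ᶜ) → X))
      have h2 : (Subtype.val ⁻¹' {z.1} : Set ↥((U : Set X)ᶜ)) = {z} := by ext; simp [Subtype.ext_iff]
      exact h2 ▸ h1⟩
    infer_instance
  obtain ⟨f, hf0, hpole⟩ := exists_pole hU hfin hloc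
  -- a neighbourhood of each missing point where the inverse of the function cuts out the point
  have key : ∀ x : {x : X // x ∉ U}, ∃ (W : X.Opens) (g : Γ(X, W)) (hx : x.1 ∈ W), (∀ y ∈ W, y ∉ U → y = x.1) ∧
      ¬ IsUnit (X.presheaf.germ W x.1 hx g) ∧
      X.presheaf.map (homOfLE (inf_le_left : W ⊓ U ≤ W)).op g *
        X.presheaf.map (homOfLE (inf_le_right : W ⊓ U ≤ U)).op f = 1 := by
    intro x
    obtain ⟨W₀, hW₀, hxW₀, hW₀x, -⟩ := Glue.exists_nhd_basicOpen U hdisc x.2 (hloc x x.2).1 (hloc x x.2).2.le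
    obtain ⟨g₀, hg₀, hg⟩ := hpole x x.2
    obtain ⟨W, hxW, g, rfl⟩ := X.presheaf.germ_exist g₀
    let W' := W ⊓ W₀
    have hxW' : x.1 ∈ W' := ⟨hxW, hxW₀⟩
    refine ⟨W', X.presheaf.map (homOfLE (inf_le_left : W' ≤ W)).op g, hxW', fun y hy => hW₀x y hy.2, ?_, ?_⟩
    · rw [TopCat.Presheaf.germ_res_apply]
      exact (mem_maximalIdeal _).1 hg₀
    · have hη : genericPoint X ∈ W' ⊓ U := ⟨(genericPoint_specializes x.1).mem_open W'.2 hxW',
        ((genericPoint_spec X).specializes trivial).mem_open U.2 hne.choose_spec⟩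
      have : Nonempty (W' ⊓ U : X.Opens) := ⟨⟨_, hη⟩⟩
      refine Scheme.germToFunctionField_injective X (W' ⊓ U) ?_
      have hWne : Nonempty W := ⟨⟨_, hxW⟩⟩
      rw [map_mul, map_one]
      have e1 : X.germToFunctionField (W' ⊓ U) (X.presheaf.map (homOfLE (inf_le_left : W' ⊓ U ≤ W')).op
          (X.presheaf.map (homOfLE (inf_le_left : W' ≤ W)).op g)) = X.germToFunctionField W g := by
        erw [TopCat.Presheaf.germ_res_apply, TopCat.Presheaf.germ_res_apply]
      have e2 : X.germToFunctionField (W' ⊓ U) (X.presheaf.map (homOfLE (inf_le_right : W' ⊓ U ≤ U)).op f) =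
          X.germToFunctionField U f := by
        erw [TopCat.Presheaf.germ_res_apply]
      rw [e1, e2, ← X.algebraMap_germ_eq_germToFunctionField hxW g, hg, inv_mul_cancel₀ hf0]
  choose W g hxW hWx hgx hgf using key
  let P := (Scheme.Modules.pushforward U.ι).obj (Coh.structureModule (U : Scheme.{u}))
  have hP : ∀ V : X.Opens, Function.Bijective (res P (inf_le_left : V ⊓ U ≤ V)) := S7669.hP_push X U _
  let one : Γ(P, ⊤) := (1 : Γ((U : Scheme.{u}), U.ι ⁻¹ᵁ ⊤))
  have hone : IsFrame P U (res P le_top one) := by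
    refine ParaF26.isFrame_push U.ι (fun W' hW' => ParaF26.bijective_app_of_le U.ι
      (hW'.trans (Scheme.Opens.opensRange_ι U).ge)) (ParaF26.isFrame_one.res ?_)
    exact le_top
  -- the second global section: the function `f`
  obtain ⟨F, hF⟩ : ∃ F : Γ(P, ⊤), res P (le_top : U ≤ ⊤) F = f • res P le_top one := by
    obtain ⟨F, hF⟩ := (hP ⊤).2 (X.presheaf.map (homOfLE (inf_le_right : ⊤ ⊓ U ≤ U)).op f • res P le_top one)
    refine ⟨F, ?_⟩
    have h1 := congrArg (res P (le_inf le_top le_rfl : U ≤ ⊤ ⊓ U)) hF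
    rw [res_smul, res_res, res_res, Glue.map_map_fn, Glue.map_self_fn] at h1
    exact h1
  have hdisj : ∀ i j : {x : X // x ∉ U}, i ≠ j → W i ⊓ W j ≤ U := fun i j hij y hy => by
    by_contra hyU
    exact hij (Subtype.ext ((hWx i y hy.1 hyU).symm.trans (hWx j y hy.2 hyU)))
  have hcov : ∀ x : X, x ∈ U ∨ ∃ i, x ∈ W i := fun x => by
    by_cases hx : x ∈ U
    · exact Or.inl hx
    · exact Or.inr ⟨⟨x, hx⟩, hxW ⟨x, hx⟩⟩
  let e : ∀ i, Γ(P, W i) := fun i => res P le_top F
  have he : ∀ i, res P (inf_le_left : W i ⊓ U ≤ W i) (e i) =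
      X.presheaf.map (homOfLE (inf_le_right : W i ⊓ U ≤ U)).op f • res P le_top one := fun i => by
    have h1 := congrArg (res P (inf_le_right : W i ⊓ U ≤ U)) hF
    rw [res_smul, res_res, res_res] at h1
    simp only [e, res_res]
    exact h1
  have hfr : ∀ i, IsFrame P (W i ⊓ U) (res P inf_le_left (e i)) := fun i => by
    rw [he]
    have h1 := hone.res (inf_le_right : W i ⊓ U ≤ U)
    rw [res_res] at h1
    exact (Amp73.isFrame_smul_iff h1 _).2 (IsUnit.of_mul_eq_one_right _ (hgf i))
  have hinv := Glue.isInvertible_glued e hdisj hcov hP (S7669.hPf_push X U _ EGA73.isInvertible_structureModule) hfr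
  obtain ⟨s, hs⟩ := Glue.exists_lift_genLocus e hdisj hcov hP hfr one hone g
    (fun i => by rw [he, smul_smul, hgf, one_smul])
    (fun i y hy hyU hunit => by
      obtain rfl := hWx i y hy hyU
      exact hgx i hunit)
  refine ⟨_, s, hinv, ?_, hs⟩
  -- `f` extends to a section generating near the missing points
  obtain ⟨a, ha1, ha2⟩ := Glue.exists_amb W P ⊤ F fun i => 1
  have ha : a ∈ (glued e U).obj ⊤ := fun i => by
    unfold Compat
    rw [ha1, ha2, map_one, one_smul]
    simp only [e, res_res]
  let σ : Γ((glued e U).mod, ⊤) := (⟨a, ha⟩ : (glued e U).obj ⊤)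
  refine Crv77.isGloballyGenerated_of_gen hinv fun y _ => ?_
  by_cases hyU : y ∈ U
  · refine ⟨s.app ⊤ (1 : Γ(X, ⊤)), ?_⟩
    have hs' : y ∈ CohB1.genLocus _ s := hs.symm.le hyU
    obtain ⟨V, hyV, hV⟩ := Amp73.mem_genLocus_iff.1 hs'
    refine Amp73.mem_genLocus_iff.2 ⟨V, hyV, ?_⟩
    convert hV using 1
    rw [Var76.Frames.val_ofSection, Var76.ZeroScheme.val]
    show res _ le_top (s.app ⊤ (1 : Γ(X, ⊤))) = _
    rw [← Mero90.app_res]
    exact congrArg _ (map_one (X.presheaf.map (homOfLE (le_top (a := V))).op).hom)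
  · refine ⟨σ, ?_⟩
    let j : {x : X // x ∉ U} := ⟨y, hyU⟩
    obtain ⟨q, hq, -, hq1⟩ := Glue.exists_gen e hdisj hP hfr j
    refine Amp73.mem_genLocus_iff.2 ⟨W j, hxW j, ?_⟩
    rw [Var76.Frames.val_ofSection]
    obtain ⟨c, hc⟩ := (hq (W j) le_rfl).2 (res (glued e U).mod le_top σ)
    dsimp only at hc
    have hc1 : c = 1 := by
      have h3 : c • res (amb W P) le_rfl ((glued e U).ι.app (W j) q) = res (amb W P) le_top a :=
        congrArg Subtype.val hc
      have h4 := congrArg (coord W P j (W j)) h3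
      rw [coord_smul, coord_res, hq1, map_one, mul_one, coord_res, ha2, map_one] at h4
      refine (ParaF26.bijective_map_of_eq (inf_le_left : W j ⊓ W j ≤ W j) (le_inf le_rfl le_rfl)).1 ?_
      rw [h4, map_one]
    rw [hc1, one_smul, Amp73.res_self] at hc
    rw [← hc]
    exact hq

end Groth.Agent.Lift75

end
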