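import Groth.Agent.Lift75.AmpleAlg
import Groth.Agent.Lift75.Closed
import Groth.Agent.Lift75.GG

/-! On a Noetherian separated scheme of dimension one, an affine open containing the maximal points is
the generating locus of a section of a globally generated invertible module. -/

set_option autoImplicit false
set_option linter.style.haveILetI false
set_option backward.isDefEq.respectTransparency false
universe u

open CategoryTheory CategoryTheory.Limits AlgebraicGeometry TopologicalSpace IsLocalRing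
open Groth.Agent.Var76.LineBundle Groth.Agent.Curves2 Groth.Agent.Curves2.Glue

noncomputable section

namespace Groth.Agent.Lift75.Ample1

variable {X : Scheme.{u}}

theorem exists_affine_max [NoetherianSpace X] (x : X) :
    ∃ U : X.Opens, IsAffineOpen U ∧ x ∈ U ∧ ∀ η : X, (∀ x', x' ⤳ η → x' = η) → η ∈ U := by
  classical
  let M : Set X := {x | ∀ x', x' ⤳ x → x' = x}
  have hM : M.Finite := by
    refine Set.Finite.of_finite_image (f := fun x : X => closure ({x} : Set X)) ?_ fun a _ b _ h =>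
      Inseparable.eq (inseparable_iff_closure_eq.2 h)
    refine (NoetherianSpace.finite_irreducibleComponents (α := X)).subset ?_
    rintro _ ⟨x, hx, rfl⟩
    obtain ⟨C, hC, hxC⟩ := exists_mem_irreducibleComponents_subset_of_isIrreducible _
      (isIrreducible_singleton (x := x)).closure
    obtain ⟨g, hg⟩ := QuasiSober.sober hC.1 (isClosed_of_mem_irreducibleComponents C hC)
    have h1 : g = x := hx g (hg.specializes (hxC (subset_closure rfl)))
    show closure ({x} : Set X) ∈ irreducibleComponents _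
    rw [← h1, hg.def]
    exact hC
  haveI : Finite M := hM.to_subtype
  let O : M → X.Opens := fun η =>
    ⟨(⋃ ζ ∈ {ζ : M | ζ ≠ η}, closure ({ζ.1} : Set X))ᶜ,
      ((Set.toFinite _).isClosed_biUnion fun _ _ => isClosed_closure).isOpen_compl⟩
  have hOmem : ∀ (η : M) (y : X), y ∈ O η → ∀ ζ : M, ζ.1 ⤳ y → ζ = η := fun η y hy ζ hζ => by
    by_contra hne
    exact hy (Set.mem_biUnion hne (specializes_iff_mem_closure.1 hζ))
  have hηO : ∀ η : M, η.1 ∈ O η := fun η h => by
    obtain ⟨ζ, hζ, h1⟩ := Set.mem_iUnion₂.1 h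
    exact hζ (Subtype.ext (η.2 _ (specializes_iff_mem_closure.2 h1)))
  obtain ⟨W, hW, hxW, -⟩ := exists_isAffineOpen_mem_and_subset (U := (⊤ : X.Opens)) (trivial : x ∈ (⊤ : X.Opens))
  let J := {η : M // η.1 ∉ W}
  choose V hV hηV hVO using fun η : J => exists_isAffineOpen_mem_and_subset (U := O η.1) (hηO η.1)
  have h1 : IsAffineOpen (⨆ η, V η) := IsAffineOpen.iSup_of_disjoint hV fun η θ hne => by
    rw [Function.onFun, disjoint_iff, eq_bot_iff]
    intro y hy
    obtain ⟨ζ, hζ, hζy⟩ := Ample.exists_maximal y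
    exact hne (Subtype.ext ((hOmem η.1 y (hVO η hy.1) ⟨ζ, hζ⟩ hζy).symm.trans
      (hOmem θ.1 y (hVO θ hy.2) ⟨ζ, hζ⟩ hζy)))
  refine ⟨W ⊔ ⨆ η, V η, hW.sup_of_disjoint h1 ?_, Or.inl hxW, fun η hη => ?_⟩
  · rw [disjoint_iff, eq_bot_iff]
    intro y hy
    obtain ⟨θ, hθ⟩ := Opens.mem_iSup.1 hy.2
    obtain ⟨ζ, hζ, hζy⟩ := Ample.exists_maximal y
    have h2 := hOmem θ.1 y (hVO θ hθ) ⟨ζ, hζ⟩ hζy
    exact θ.2 (h2 ▸ hζy.mem_open W.2 hy.1)
  · by_cases hW' : η ∈ W
    · exact Or.inl hW'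
    · exact Or.inr (Opens.mem_iSup.2 ⟨⟨⟨η, hη⟩, hW'⟩, hηV ⟨⟨η, hη⟩, hW'⟩⟩)

theorem krullDimLE_stalk (hdim : topologicalKrullDim X ≤ 1) (y : X) :
    Ring.KrullDimLE 1 (X.presheaf.stalk y) := by
  rw [Ring.KrullDimLE, Order.krullDimLE_iff]
  show ringKrullDim (X.presheaf.stalk y) ≤ 1
  rw [← PrimeSpectrum.topologicalKrullDim_eq_ringKrullDim]
  exact (X.fromSpecStalk y).isEmbedding.isInducing.topologicalKrullDim_le.trans hdim

theorem notMem_of_ne_closed {U W : X.Opens} {y : X} (hyW : y ∈ W) (hWy : ∀ z ∈ W, z ∉ U → z = y)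
    {t : Γ(X, W)} (ht : X.basicOpen t = W ⊓ U) (p : PrimeSpectrum (X.presheaf.stalk y))
    (hp : p.asIdeal ≠ maximalIdeal (X.presheaf.stalk y)) : X.presheaf.germ W y hyW t ∉ p.asIdeal := by
  have hsp : X.fromSpecStalk y p ⤳ y := Scheme.range_fromSpecStalk.le ⟨p, rfl⟩
  have hqW : X.fromSpecStalk y p ∈ W := hsp.mem_open W.2 hyW
  have hne : X.fromSpecStalk y p ≠ y := fun he => hp (congrArg PrimeSpectrum.asIdeal
    ((X.fromSpecStalk y).isEmbedding.injective (he.trans Scheme.fromSpecStalk_closedPoint.symm)))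
  have hqt : X.fromSpecStalk y p ∈ X.basicOpen t := by
    rw [ht]
    refine ⟨hqW, ?_⟩
    by_contra h
    exact hne (hWy _ hqW h)
  rw [← Ufd.comap_maximalIdeal_stalkSpecializes p hsp, Ideal.mem_comap,
    TopCat.Presheaf.germ_stalkSpecializes_apply, IsLocalRing.mem_maximalIdeal, mem_nonunits_iff, not_not]
  exact (X.mem_basicOpen t _ hqW).1 hqt

/-- Restriction of functions to the branch at `p`. -/
def branch {U W : X.Opens} (hW : IsAffineOpen W) {y : X} (hyW : y ∈ W) (t : Γ(X, W))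
    (hle : X.basicOpen t ≤ U) (p : PrimeSpectrum (X.presheaf.stalk y))
    (hp : X.presheaf.germ W y hyW t ∉ p.asIdeal) :
    Γ(X, U) →+* FractionRing (X.presheaf.stalk y ⧸ p.asIdeal) :=
  haveI := hW.isLocalization_basicOpen t
  (IsLocalization.Away.lift (S := Γ(X, X.basicOpen t)) t
    (g := (algebraMap (X.presheaf.stalk y) (FractionRing (X.presheaf.stalk y ⧸ p.asIdeal))).comp
      (X.presheaf.germ W y hyW).hom)
    (isUnit_iff_ne_zero.2 fun h => hp (by
      rw [RingHom.comp_apply, IsScalarTower.algebraMap_apply (X.presheaf.stalk y)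
        (X.presheaf.stalk y ⧸ p.asIdeal) (FractionRing (X.presheaf.stalk y ⧸ p.asIdeal)),
        IsFractionRing.to_map_eq_zero_iff] at h
      exact Ideal.Quotient.eq_zero_iff_mem.1 h))).comp (X.presheaf.map (homOfLE hle).op).hom

theorem exists_notMem [X.IsSeparated] {U W : X.Opens} (hU : IsAffineOpen U) (hW : IsAffineOpen W) {y : X}
    (hy : y ∉ U) (hyW : y ∈ W) (hd : Ring.KrullDimLE 1 (X.presheaf.stalk y)) (t : Γ(X, W))
    (hle : X.basicOpen t ≤ U) (p : PrimeSpectrum (X.presheaf.stalk y))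
    (hp : X.presheaf.germ W y hyW t ∉ p.asIdeal)
    (O : ValuationSubring (FractionRing (X.presheaf.stalk y ⧸ p.asIdeal)))
    (hO : ∀ b, algebraMap (X.presheaf.stalk y ⧸ p.asIdeal) _ b ∈ O) (hne : O ≠ ⊤) :
    ∃ a : Γ(X, U), branch hW hyW t hle p hp a ∉ O := by
  by_contra hcon
  simp only [not_exists, not_not] at hcon
  have := hW.isLocalization_basicOpen t
  let φ : (X.presheaf.stalk y) →+* O := ((algebraMap ((X.presheaf.stalk y) ⧸ p.asIdeal) (FractionRing (X.presheaf.stalk y ⧸ p.asIdeal))).codRestrict O hO).comp (Ideal.Quotient.mk p.asIdeal)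
  have hloc : (maximalIdeal O).comap φ = maximalIdeal (X.presheaf.stalk y) := by
    let q := (maximalIdeal O).comap ((algebraMap ((X.presheaf.stalk y) ⧸ p.asIdeal) (FractionRing (X.presheaf.stalk y ⧸ p.asIdeal))).codRestrict O hO)
    have hq : q.IsPrime := Ideal.comap_isPrime _ _
    have hdim : Ring.KrullDimLE 1 ((X.presheaf.stalk y) ⧸ p.asIdeal) := by
      rw [Ring.KrullDimLE, Order.krullDimLE_iff]
      exact (ringKrullDim_quotient_le p.asIdeal).trans ((Order.krullDimLE_iff 1 _).1 hd)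
    have hq0 : q ≠ ⊥ := fun h0 => hne (VarDim1.valuationSubring_eq_top_of_algebraMap O hO fun b hb => by
      have hu : ¬ (⟨_, hO b⟩ : O) ∈ maximalIdeal O := fun hm =>
        hb ((Submodule.mem_bot _).1 (h0 ▸ (show b ∈ q from hm)))
      rw [mem_maximalIdeal, mem_nonunits_iff, not_not] at hu
      obtain ⟨v, hv⟩ := isUnit_iff_exists_inv.1 hu
      rw [show (algebraMap ((X.presheaf.stalk y) ⧸ p.asIdeal) (FractionRing (X.presheaf.stalk y ⧸ p.asIdeal)) b)⁻¹ = (v : (FractionRing (X.presheaf.stalk y ⧸ p.asIdeal))) from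
        (eq_inv_of_mul_eq_one_right (congrArg Subtype.val hv)).symm]
      exact v.2)
    have hqm : q.IsMaximal := hq.isMaximal_of_ne_bot hq0
    exact IsLocalRing.eq_maximalIdeal
      (show (Ideal.comap (Ideal.Quotient.mk p.asIdeal) q).IsMaximal from Ideal.comap_isMaximal_of_surjective _ Ideal.Quotient.mk_surjective)
  let ψ : Γ(X, U) →+* O := (branch hW hyW t hle p hp).codRestrict O hcon
  let g₁ : Spec (CommRingCat.of O) ⟶ X := Spec.map (CommRingCat.ofHom ψ) ≫ hU.fromSpec
  let g₂ : Spec (CommRingCat.of O) ⟶ X := Spec.map (CommRingCat.ofHom φ) ≫ X.fromSpecStalk y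
  have heq : g₁ = g₂ := by
    refine SchLoc58.hom_ext_of_injective (CommRingCat.ofHom O.subtype) Subtype.val_injective ?_
    simp only [g₁, g₂]
    rw [← Category.assoc, ← Spec.map_comp, ← Category.assoc, ← Spec.map_comp]
    have hu : IsUnit (((algebraMap (X.presheaf.stalk y) (FractionRing (X.presheaf.stalk y ⧸ p.asIdeal))).comp
        (X.presheaf.germ W y hyW).hom) t) := isUnit_iff_ne_zero.2 fun h => hp (by
      rw [RingHom.comp_apply, IsScalarTower.algebraMap_apply (X.presheaf.stalk y) (X.presheaf.stalk y ⧸ p.asIdeal)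
        (FractionRing (X.presheaf.stalk y ⧸ p.asIdeal)), IsFractionRing.to_map_eq_zero_iff] at h
      exact Ideal.Quotient.eq_zero_iff_mem.1 h)
    let β : CommRingCat.of Γ(X, X.basicOpen t) ⟶ CommRingCat.of (FractionRing (X.presheaf.stalk y ⧸ p.asIdeal)) :=
      CommRingCat.ofHom (IsLocalization.Away.lift (S := Γ(X, X.basicOpen t)) t hu)
    have e1 : CommRingCat.ofHom ψ ≫ CommRingCat.ofHom O.subtype = X.presheaf.map (homOfLE hle).op ≫ β := rfl
    have e2 : X.presheaf.germ W y hyW ≫ CommRingCat.ofHom φ ≫ CommRingCat.ofHom O.subtype =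
        X.presheaf.map (homOfLE (X.basicOpen_le t)).op ≫ β := by
      ext a
      refine (IsScalarTower.algebraMap_apply (X.presheaf.stalk y) ((X.presheaf.stalk y) ⧸ p.asIdeal) (FractionRing (X.presheaf.stalk y ⧸ p.asIdeal)) (X.presheaf.germ W y hyW a)).symm.trans ?_
      exact (IsLocalization.Away.lift_eq (S := Γ(X, X.basicOpen t)) t hu a).symm
    rw [e1, Spec.map_comp, Category.assoc, hU.map_fromSpec (hW.basicOpen t) (homOfLE hle).op,
      ← hW.map_fromSpec (hW.basicOpen t) (homOfLE (X.basicOpen_le t)).op, ← Category.assoc, ← Spec.map_comp,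
      ← e2, ← hW.fromSpecStalk_eq_fromSpecStalk hyW]
    simp only [IsAffineOpen.fromSpecStalk, Spec.map_comp, Category.assoc]
  let c : Spec (CommRingCat.of O) := (closedPoint O : PrimeSpectrum O)
  have h1 : g₁ c ∈ U := hU.range_fromSpec.le ⟨Spec.map (CommRingCat.ofHom ψ) c, (Scheme.Hom.comp_apply _ _ _).symm⟩
  have h2 : g₂ c = y := by
    show (Spec.map (CommRingCat.ofHom φ) ≫ X.fromSpecStalk y) c = y
    rw [Scheme.Hom.comp_apply]
    rw [show Spec.map (CommRingCat.ofHom φ) c = (closedPoint (X.presheaf.stalk y) : PrimeSpectrum (X.presheaf.stalk y)) from PrimeSpectrum.ext hloc]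
    exact Scheme.fromSpecStalk_closedPoint
  rw [heq, h2] at h1
  exact hy h1

set_option maxHeartbeats 1000000 in
/-- A function on `U` with a pole at every point outside, with local inverses. -/
theorem exists_pole [IsLocallyNoetherian X] [NoetherianSpace X] [X.IsSeparated]
    (hdim : topologicalKrullDim X ≤ 1) {U : X.Opens} (hU : IsAffineOpen U)
    (hfin : ((U : Set X)ᶜ).Finite) (hdisc : DiscreteTopology ↥((U : Set X)ᶜ)) :
    ∃ f : Γ(X, U), ∀ x : {x : X // x ∉ U}, ∃ (W : X.Opens) (g : Γ(X, W)) (hx : x.1 ∈ W),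
      (∀ y ∈ W, y ∉ U → y = x.1) ∧ ¬ IsUnit (X.presheaf.germ W x.1 hx g) ∧
      X.presheaf.map (homOfLE (inf_le_left : W ⊓ U ≤ W)).op g *
        X.presheaf.map (homOfLE (inf_le_right : W ⊓ U ≤ U)).op f = 1 := by
  classical
  let B := {x : X // x ∉ U}
  have : Finite B := hfin.to_subtype
  have : QuasiCompact U.ι := quasiCompact_of_noetherianSpace U
  choose W hW hyW hWy t ht using fun y : B => exists_nhd_basicOpen U hdisc y.2 (finite_primes hdim y.1)
  have hle : ∀ y, X.basicOpen (t y) ≤ U := fun y => (ht y).le.trans inf_le_right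
  let P : B → Type u := fun y => {p : PrimeSpectrum (X.presheaf.stalk y.1) // p.asIdeal ≠ maximalIdeal _}
  have hp : ∀ (y : B) (p : P y), X.presheaf.germ (W y) y.1 (hyW y) (t y) ∉ p.1.asIdeal := fun y p =>
    notMem_of_ne_closed (hyW y) (hWy y) (ht y) p.1 p.2
  let V : ∀ (y : B), P y → Type u := fun y p =>
    {O : ValuationSubring (FractionRing (X.presheaf.stalk y.1 ⧸ p.1.asIdeal)) //
      (∀ b, algebraMap (X.presheaf.stalk y.1 ⧸ p.1.asIdeal) _ b ∈ O) ∧ O ≠ ⊤}
  have hPfin : ∀ y, Finite (P y) := fun y => by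
    have := finite_primeSpectrum (finite_primes hdim y.1)
    exact Subtype.finite
  have hVfin : ∀ y (p : P y), Finite (V y p) := fun y p => by
    have := krullDimLE_stalk hdim y.1
    have : Ring.KrullDimLE 1 (X.presheaf.stalk y.1 ⧸ p.1.asIdeal) := by
      rw [Ring.KrullDimLE, Order.krullDimLE_iff]
      exact (ringKrullDim_quotient_le p.1.asIdeal).trans ((Order.krullDimLE_iff 1 _).1 (krullDimLE_stalk hdim y.1))
    have : IsLocalRing (X.presheaf.stalk y.1 ⧸ p.1.asIdeal) :=
      IsLocalRing.of_surjective' (Ideal.Quotient.mk _) Ideal.Quotient.mk_surjective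
    have : Finite (MaximalSpectrum (X.presheaf.stalk y.1 ⧸ p.1.asIdeal)) :=
      Finite.of_injective (fun _ => ()) fun a b _ => MaximalSpectrum.ext
        ((IsLocalRing.eq_maximalIdeal a.isMaximal).trans (IsLocalRing.eq_maximalIdeal b.isMaximal).symm)
    exact (VarDim1.finite_valuationSubrings fun hf =>
      p.2 (IsLocalRing.eq_maximalIdeal (Ideal.Quotient.maximal_of_isField _ hf))).to_subtype
  obtain ⟨f, hf⟩ := Alg.exists_forall_notMem (J := Σ y : B, Σ p : P y, V y p)
    (fun j => FractionRing (X.presheaf.stalk j.1.1 ⧸ j.2.1.1.asIdeal)) (fun j => j.2.2.1)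
    (fun j => branch (hW j.1) (hyW j.1) (t j.1) (hle j.1) j.2.1.1 (hp j.1 j.2.1))
    (fun j => exists_notMem hU (hW j.1) j.1.2 (hyW j.1) (krullDimLE_stalk hdim j.1.1) (t j.1) (hle j.1)
      j.2.1.1 (hp j.1 j.2.1) j.2.2.1 j.2.2.2.1 j.2.2.2.2)
  have loc : ∀ y : B, ∃ (N : ℕ) (W' : X.Opens) (g : Γ(X, W')) (hy : y.1 ∈ W'), 0 < N ∧
      (∀ z ∈ W', z ∉ U → z = y.1) ∧ ¬ IsUnit (X.presheaf.germ W' y.1 hy g) ∧
      X.presheaf.map (homOfLE (inf_le_left : W' ⊓ U ≤ W')).op g *
        X.presheaf.map (homOfLE (inf_le_right : W' ⊓ U ≤ U)).op f ^ N = 1 := by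
    intro y
    have hloc := (hW y).isLocalization_basicOpen (t y)
    obtain ⟨n₀, a₀, hna⟩ := IsLocalization.Away.surj (S := Γ(X, X.basicOpen (t y))) (t y)
      (X.presheaf.map (homOfLE (hle y)).op f)
    change X.presheaf.map (homOfLE (hle y)).op f * X.presheaf.map (homOfLE (X.basicOpen_le (t y))).op (t y) ^ n₀ =
      X.presheaf.map (homOfLE (X.basicOpen_le (t y))).op a₀ at hna
    let n := n₀ + 1
    let a := a₀ * t y
    have hna' : X.presheaf.map (homOfLE (hle y)).op f * X.presheaf.map (homOfLE (X.basicOpen_le (t y))).op (t y) ^ n =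
        X.presheaf.map (homOfLE (X.basicOpen_le (t y))).op a := by
      rw [pow_succ, ← mul_assoc, hna, map_mul]
    set R := X.presheaf.stalk y.1
    have := krullDimLE_stalk hdim y.1
    have htm : X.presheaf.germ (W y) y.1 (hyW y) (t y) ∈ maximalIdeal R :=
      (mem_maximalIdeal _).2 fun hu => y.2 (hle y ((X.mem_basicOpen (t y) y.1 (hyW y)).2 hu))
    obtain ⟨g₀, hg₀, N, hN, hgN⟩ := Alg.exists_inv_pow (X.presheaf.germ (W y) y.1 (hyW y) a)
      (X.presheaf.germ (W y) y.1 (hyW y) (t y) ^ n) (Ideal.pow_mem_of_mem _ htm n (by omega))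
      (finite_primes hdim y.1)
      (fun p hp' hpm hm => notMem_of_ne_closed (hyW y) (hWy y) (ht y) ⟨p, hp'⟩ hpm (hp'.mem_of_pow_mem n hm))
      fun p hp' hpm O hO hOne => by
        let q : P y := ⟨⟨p, hp'⟩, hpm⟩
        have h1 := hf ⟨y, q, O, hO, hOne⟩
        have h2 := congrArg (IsLocalization.Away.lift (S := Γ(X, X.basicOpen (t y))) (t y)
          (g := (algebraMap R (FractionRing (R ⧸ p))).comp (X.presheaf.germ (W y) y.1 (hyW y)).hom)
          (isUnit_iff_ne_zero.2 fun h => hp y q (by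
            rw [RingHom.comp_apply, IsScalarTower.algebraMap_apply R (R ⧸ p) (FractionRing (R ⧸ p)),
              IsFractionRing.to_map_eq_zero_iff] at h
            exact Ideal.Quotient.eq_zero_iff_mem.1 h))) hna'
        rw [map_mul, map_pow] at h2
        erw [IsLocalization.Away.lift_eq, IsLocalization.Away.lift_eq] at h2
        simp only [RingHom.comp_apply, ← map_pow] at h2
        have hne0 : algebraMap R (FractionRing (R ⧸ p)) (X.presheaf.germ (W y) y.1 (hyW y) (t y ^ n)) ≠ 0 := by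
          intro h0
          refine hp y q (hp'.mem_of_pow_mem n ?_)
          rw [IsScalarTower.algebraMap_apply R (R ⧸ p) (FractionRing (R ⧸ p)),
            IsFractionRing.to_map_eq_zero_iff, Ideal.Quotient.algebraMap_eq, Ideal.Quotient.eq_zero_iff_mem, map_pow] at h0
          exact h0
        have h3 := eq_div_of_mul_eq hne0 h2
        intro hm
        refine h1 ?_
        show branch (hW y) (hyW y) (t y) (hle y) ⟨p, hp'⟩ (hp y q) f ∈ O
        rw [show branch (hW y) (hyW y) (t y) (hle y) ⟨p, hp'⟩ (hp y q) f = _ from h3]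
        convert hm using 3
        exact map_pow _ _ _
    obtain ⟨W₁, hyW₁, g₁, rfl⟩ := X.presheaf.exists_germ_eq g₀
    let W₂ := W₁ ⊓ W y
    have hyW₂ : y.1 ∈ W₂ := ⟨hyW₁, hyW y⟩
    have h3 : X.presheaf.germ W₂ y.1 hyW₂
        (X.presheaf.map (homOfLE (inf_le_left : W₂ ≤ W₁)).op g₁ * X.presheaf.map (homOfLE (inf_le_right : W₂ ≤ W y)).op a ^ N) =
        X.presheaf.germ W₂ y.1 hyW₂ ((X.presheaf.map (homOfLE (inf_le_right : W₂ ≤ W y)).op (t y) ^ n) ^ N) := by
      simp only [map_mul, map_pow]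
      erw [TopCat.Presheaf.germ_res_apply, TopCat.Presheaf.germ_res_apply, TopCat.Presheaf.germ_res_apply]
      exact hgN
    obtain ⟨W₃, hyW₃, i₁, i₂, h4⟩ := X.presheaf.germ_eq y.1 hyW₂ hyW₂ _ _ h3
    have h32 : W₃ ≤ W₂ := leOfHom i₁
    obtain rfl : i₁ = homOfLE h32 := Subsingleton.elim _ _
    obtain rfl : i₂ = homOfLE h32 := Subsingleton.elim _ _
    refine ⟨N, W₃, X.presheaf.map (homOfLE (h32.trans inf_le_left)).op g₁, hyW₃, hN,
      fun z hz => hWy y z (h32 hz).2, ?_, ?_⟩
    · rw [TopCat.Presheaf.germ_res_apply]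
      exact (mem_maximalIdeal _).1 hg₀
    · have hD : W₃ ⊓ U ≤ X.basicOpen (t y) := by
        rw [ht y]; exact le_inf (inf_le_left.trans (h32.trans inf_le_right)) inf_le_right
      have h5 := congrArg (X.presheaf.map (homOfLE (inf_le_left : W₃ ⊓ U ≤ W₃)).op) h4
      have h6 := congrArg (X.presheaf.map (homOfLE hD).op) hna'
      simp only [map_mul, map_pow, Glue.map_map_fn] at h5 h6
      have hu : IsUnit ((X.presheaf.map (homOfLE (hD.trans (X.basicOpen_le (t y)))).op (t y) ^ n) ^ N) := by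
        have h7 := (RingedSpace.isUnit_res_basicOpen X.toRingedSpace (t y)).map (X.presheaf.map (homOfLE hD).op).hom
        exact (((Glue.map_map_fn (X.basicOpen_le (t y)) hD (t y)) ▸ h7 :
          IsUnit (X.presheaf.map (homOfLE (hD.trans (X.basicOpen_le (t y)))).op (t y))).pow n).pow N
      rw [Glue.map_map_fn]
      refine hu.mul_right_cancel ?_
      rw [mul_assoc, ← mul_pow, h6, one_mul]
      rw [Glue.map_map_fn, Glue.map_map_fn, Glue.map_map_fn] at h5
      exact h5
  choose N W' g hyW' hN hWy' hgu hgf using loc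
  cases nonempty_fintype B
  let M := ∏ y, N y
  refine ⟨f ^ M, fun y => ?_⟩
  obtain ⟨k, hk⟩ : N y ∣ M := Finset.dvd_prod_of_mem N (Finset.mem_univ y)
  have hk0 : k ≠ 0 := fun h0 => (Finset.prod_pos fun y _ => hN y : 0 < M).ne' (hk.trans (by rw [h0, mul_zero]))
  refine ⟨W' y, g y ^ k, hyW' y, hWy' y, fun h => hgu y ((isUnit_pow_iff hk0).1 (map_pow (X.presheaf.germ (W' y) y.1 (hyW' y)).hom (g y) k ▸ h)), ?_⟩
  rw [map_pow, map_pow, hk, pow_mul, ← mul_pow, hgf, one_pow]

set_option maxHeartbeats 2000000 in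
/-- The globally generated module with generating locus `U`. -/
theorem exists_gg [IsLocallyNoetherian X] [NoetherianSpace X] [X.IsSeparated]
    (hdim : topologicalKrullDim X ≤ 1) {U : X.Opens} (hU : IsAffineOpen U)
    (hmax : ∀ η : X, (∀ x', x' ⤳ η → x' = η) → η ∈ U) :
    ∃ (L : X.Modules) (s : Coh.structureModule X ⟶ L), PicF.IsInvertible L ∧ Curv2.IsGloballyGenerated L ∧
      CohB1.genLocus L s = U := by
  classical
  have hgen : ∀ z ∈ ((U : Set X)ᶜ), ∃ ζ, ζ ⤳ z ∧ z ≠ ζ := fun z hz => by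
    obtain ⟨ζ, hζ, hζz⟩ := Ample.exists_maximal z
    exact ⟨ζ, hζz, fun h => hz (h ▸ hmax ζ hζ)⟩
  have hfin : ((U : Set X)ᶜ).Finite := Crv77.finite_of_isClosed hdim U.2.isClosed_compl hgen
  have hdisc : DiscreteTopology ↥((U : Set X)ᶜ) := by
    have : Finite ↥((U : Set X)ᶜ) := hfin.to_subtype
    have : T1Space ↥((U : Set X)ᶜ) := ⟨fun z => by
      obtain ⟨ζ, hζz, hne⟩ := hgen z.1 z.2
      have h1 := (Crv77.isClosed_singleton_of_generalization hdim hζz hne).preimage
        (continuous_subtype_val : Continuous (Subtype.val : ↥((U : Set X)ᶜ) → X))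
      have h2 : (Subtype.val ⁻¹' {z.1} : Set ↥((U : Set X)ᶜ)) = {z} := by ext; simp [Subtype.ext_iff]
      exact h2 ▸ h1⟩
    infer_instance
  have : QuasiCompact U.ι := quasiCompact_of_noetherianSpace U
  obtain ⟨f, key⟩ := exists_pole hdim hU hfin hdisc
  choose W g hxW hWx hgx hgf using key
  let P := (Scheme.Modules.pushforward U.ι).obj (Coh.structureModule (U : Scheme.{u}))
  have hP : ∀ V : X.Opens, Function.Bijective (res P (inf_le_left : V ⊓ U ≤ V)) := S7669.hP_push X U _
  let one : Γ(P, ⊤) := (1 : Γ((U : Scheme.{u}), U.ι ⁻¹ᵁ ⊤))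
  have hone : IsFrame P U (res P le_top one) := by
    refine ParaF26.isFrame_push U.ι (fun W' hW' => ParaF26.bijective_app_of_le U.ι
      (hW'.trans (Scheme.Opens.opensRange_ι U).ge)) (ParaF26.isFrame_one.res ?_)
    exact le_top
  -- the second global section: the function `f`
  obtain ⟨F, hF⟩ : ∃ F : Γ(P, ⊤), res P (le_top : U ≤ ⊤) F = f • res P le_top one := by
    obtain ⟨F, hF⟩ := (hP ⊤).2 (X.presheaf.map (homOfLE (inf_le_right : ⊤ ⊓ U ≤ U)).op f • res P le_top one)
    refine ⟨F, ?_⟩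
    have h1 := congrArg (res P (le_inf le_top le_rfl : U ≤ ⊤ ⊓ U)) hF
    rw [res_smul, res_res, res_res, Glue.map_map_fn, Glue.map_self_fn] at h1
    exact h1
  have hdisj : ∀ i j : {x : X // x ∉ U}, i ≠ j → W i ⊓ W j ≤ U := fun i j hij y hy => by
    by_contra hyU
    exact hij (Subtype.ext ((hWx i y hy.1 hyU).symm.trans (hWx j y hy.2 hyU)))
  have hcov : ∀ x : X, x ∈ U ∨ ∃ i, x ∈ W i := fun x => by
    by_cases hx : x ∈ U
    · exact Or.inl hx
    · exact Or.inr ⟨⟨x, hx⟩, hxW ⟨x, hx⟩⟩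
  let e : ∀ i, Γ(P, W i) := fun i => res P le_top F
  have he : ∀ i, res P (inf_le_left : W i ⊓ U ≤ W i) (e i) =
      X.presheaf.map (homOfLE (inf_le_right : W i ⊓ U ≤ U)).op f • res P le_top one := fun i => by
    have h1 := congrArg (res P (inf_le_right : W i ⊓ U ≤ U)) hF
    rw [res_smul, res_res, res_res] at h1
    simp only [e, res_res]
    exact h1
  have hfr : ∀ i, IsFrame P (W i ⊓ U) (res P inf_le_left (e i)) := fun i => by
    rw [he]
    have h1 := hone.res (inf_le_right : W i ⊓ U ≤ U)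
    rw [res_res] at h1
    exact (Amp73.isFrame_smul_iff h1 _).2 (IsUnit.of_mul_eq_one_right _ (hgf i))
  have hinv := Glue.isInvertible_glued e hdisj hcov hP (S7669.hPf_push X U _ EGA73.isInvertible_structureModule) hfr
  obtain ⟨s, hs⟩ := Glue.exists_lift_genLocus e hdisj hcov hP hfr one hone g
    (fun i => by rw [he, smul_smul, hgf, one_smul])
    (fun i y hy hyU hunit => by
      obtain rfl := hWx i y hy hyU
      exact hgx i hunit)
  refine ⟨_, s, hinv, ?_, hs⟩
  -- `f` extends to a section generating near the missing points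
  obtain ⟨a, ha1, ha2⟩ := Glue.exists_amb W P ⊤ F fun i => 1
  have ha : a ∈ (glued e U).obj ⊤ := fun i => by
    unfold Compat
    rw [ha1, ha2, map_one, one_smul]
    simp only [e, res_res]
  let σ : Γ((glued e U).mod, ⊤) := (⟨a, ha⟩ : (glued e U).obj ⊤)
  refine Crv77.isGloballyGenerated_of_gen hinv fun y _ => ?_
  by_cases hyU : y ∈ U
  · refine ⟨s.app ⊤ (1 : Γ(X, ⊤)), ?_⟩
    have hs' : y ∈ CohB1.genLocus _ s := hs.symm.le hyU
    obtain ⟨V, hyV, hV⟩ := Amp73.mem_genLocus_iff.1 hs'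
    refine Amp73.mem_genLocus_iff.2 ⟨V, hyV, ?_⟩
    convert hV using 1
    rw [Var76.Frames.val_ofSection, Var76.ZeroScheme.val]
    show res _ le_top (s.app ⊤ (1 : Γ(X, ⊤))) = _
    rw [← Mero90.app_res]
    exact congrArg _ (map_one (X.presheaf.map (homOfLE (le_top (a := V))).op).hom)
  · refine ⟨σ, ?_⟩
    let j : {x : X // x ∉ U} := ⟨y, hyU⟩
    obtain ⟨q, hq, -, hq1⟩ := Glue.exists_gen e hdisj hP hfr j
    refine Amp73.mem_genLocus_iff.2 ⟨W j, hxW j, ?_⟩
    rw [Var76.Frames.val_ofSection]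
    obtain ⟨c, hc⟩ := (hq (W j) le_rfl).2 (res (glued e U).mod le_top σ)
    dsimp only at hc
    have hc1 : c = 1 := by
      have h3 : c • res (amb W P) le_rfl ((glued e U).ι.app (W j) q) = res (amb W P) le_top a :=
        congrArg Subtype.val hc
      have h4 := congrArg (coord W P j (W j)) h3
      rw [coord_smul, coord_res, hq1, map_one, mul_one, coord_res, ha2, map_one] at h4
      refine (ParaF26.bijective_map_of_eq (inf_le_left : W j ⊓ W j ≤ W j) (le_inf le_rfl le_rfl)).1 ?_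
      rw [h4, map_one]
    rw [hc1, one_smul, Amp73.res_self] at hc
    rw [← hc]
    exact hq

end Groth.Agent.Lift75.Ample1

end
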