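import Groth.Agent.VarDim1.Semilocal
import Mathlib.RingTheory.Noetherian.Nilpotent

/-! Algebra for poles at isolated points of a possibly non-reduced one-dimensional scheme. -/

set_option autoImplicit false
set_option linter.style.haveILetI false

universe u v w

open IsLocalRing

namespace Groth.Agent.Lift75.Alg

/-- One element outside finitely many valuation rings, the fields varying. -/
theorem exists_forall_notMem {A : Type u} [CommRing A] {J : Type v} [Finite J]
    (K : J → Type w) [∀ j, Field (K j)] (O : ∀ j, ValuationSubring (K j)) (φ : ∀ j, A →+* K j)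
    (h : ∀ j, ∃ a, φ j a ∉ O j) : ∃ x : A, ∀ j, φ j x ∉ O j := by
  classical
  cases nonempty_fintype J
  suffices hs : ∀ s : Finset J, ∃ x : A, ∀ j ∈ s, φ j x ∉ O j by
    obtain ⟨x, hx⟩ := hs Finset.univ
    exact ⟨x, fun j => hx j (Finset.mem_univ j)⟩
  intro s
  induction s using Finset.induction with
  | empty => exact ⟨0, fun j hj => absurd hj (Finset.notMem_empty j)⟩
  | @insert j₀ s _ ih =>
    obtain ⟨x, hx⟩ := ih
    obtain ⟨y, hy⟩ := h j₀
    by_cases hx₀ : φ j₀ x ∈ O j₀
    swap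
    · exact ⟨x, Finset.forall_mem_insert _ _ _ |>.2 ⟨hx₀, hx⟩⟩
    obtain ⟨b, hb1, hb⟩ : ∃ b : ℕ, 1 ≤ b ∧ ∀ j ∈ s, φ j y ∉ O j →
        (O j).valuation (φ j y) ^ b ≠ (O j).valuation (φ j x) := by
      have hbad : (⋃ j ∈ (s : Set J), {b : ℕ | φ j y ∉ O j ∧
          (O j).valuation (φ j y) ^ b = (O j).valuation (φ j x)}).Finite := by
        refine s.finite_toSet.biUnion fun j _ => Set.Subsingleton.finite ?_
        rintro b ⟨hyO, hb⟩ c ⟨-, hc⟩
        exact (pow_right_strictMono₀ (not_le.1 fun h => hyO (((O j).valuation_le_one_iff _).1 h))).injective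
          (hb.trans hc.symm)
      obtain ⟨b, hb1, hb⟩ := (Set.Ici_infinite 1).exists_notMem_finite hbad
      exact ⟨b, hb1, fun j hj hyO he => hb (Set.mem_biUnion (Finset.mem_coe.2 hj) ⟨hyO, he⟩)⟩
    refine ⟨x + y ^ b, fun j hj hmem => ?_⟩
    rw [map_add, map_pow] at hmem
    by_cases hyO : φ j y ∈ O j
    · rcases Finset.mem_insert.1 hj with rfl | hj'
      · exact hy hyO
      · exact hx j hj' (by simpa using sub_mem hmem (pow_mem hyO b))
    rw [← ValuationSubring.valuation_le_one_iff] at hmem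
    have hy1 : 1 < (O j).valuation (φ j y) := not_le.1 fun h => hyO (((O j).valuation_le_one_iff _).1 h)
    have hyb : 1 < (O j).valuation (φ j y ^ b) := by rw [map_pow]; exact one_lt_pow₀ hy1 (by omega)
    have hne : (O j).valuation (φ j x) ≠ (O j).valuation (φ j y ^ b) := by
      rcases Finset.mem_insert.1 hj with rfl | hj'
      · exact (lt_of_le_of_lt (((O j).valuation_le_one_iff _).2 hx₀) hyb).ne
      · rw [map_pow]; exact (hb j hj' hyO).symm
    rw [Valuation.map_add_of_distinct_val _ hne] at hmem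
    exact absurd ((le_max_right _ _).trans hmem) (not_le.2 hyb)

section Integral

variable {R : Type u} [CommRing R] [IsLocalRing R]

/-- Homogeneous monic product modulo a small ideal. -/
theorem prod_sub_mem {ι : Type v} (z w : R) (b : ι → R) (hb : ∀ i, b i ∈ maximalIdeal R) (s : Finset ι) :
    (∏ i ∈ s, (z - b i * w)) - z ^ s.card ∈
      Ideal.span {w} * maximalIdeal R * (Ideal.span {z} ⊔ Ideal.span {w}) ^ (s.card - 1) := by
  classical
  induction s using Finset.induction with
  | empty => simp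
  | @insert i s hi ih =>
    set S := Ideal.span {z} ⊔ Ideal.span {w}
    have hz : z ∈ S := Ideal.mem_sup_left (Ideal.mem_span_singleton_self z)
    have hw : w ∈ S := Ideal.mem_sup_right (Ideal.mem_span_singleton_self w)
    rw [Finset.prod_insert hi, Finset.card_insert_of_notMem hi, Nat.add_sub_cancel]
    have hle : S * (Ideal.span {w} * maximalIdeal R * S ^ (s.card - 1)) ≤
        Ideal.span {w} * maximalIdeal R * S ^ s.card := by
      rw [mul_left_comm, ← pow_succ']
      exact Ideal.mul_mono_right (Ideal.pow_le_pow_right (by omega))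
    have hprod : (∏ j ∈ s, (z - b j * w)) ∈ S ^ s.card :=
      (Finset.prod_const (s := s) S) ▸ Ideal.prod_mem_prod fun j _ => S.sub_mem hz (S.mul_mem_left _ hw)
    rw [show (z - b i * w) * (∏ j ∈ s, (z - b j * w)) - z ^ (s.card + 1) =
      z * ((∏ j ∈ s, (z - b j * w)) - z ^ s.card) - b i * w * (∏ j ∈ s, (z - b j * w)) by ring]
    refine Ideal.sub_mem _ (hle (Ideal.mul_mem_mul hz ih)) (Ideal.mul_mem_mul ?_ hprod)
    rw [mul_comm (b i) w]
    exact Ideal.mul_mem_mul (Ideal.mem_span_singleton_self w) (hb i)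

/-- Lifting an equation from the residue rings at the non-maximal primes. -/
theorem exists_mul_pow_eq_pow [IsNoetherianRing R] (a z : R) (hz : z ∈ maximalIdeal R)
    (ha : ∀ p : Ideal R, p.IsPrime → a ∈ p → p = maximalIdeal R)
    (hfin : {p : Ideal R | p.IsPrime}.Finite)
    (h : ∀ p : Ideal R, p.IsPrime → p ≠ maximalIdeal R → ∃ b ∈ maximalIdeal R, z - b * a ∈ p) :
    ∃ g ∈ maximalIdeal R, ∃ N, 0 < N ∧ g * a ^ N = z ^ N := by
  classical
  let P := {p : Ideal R // p.IsPrime ∧ p ≠ maximalIdeal R}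
  have hP : Finite P := (hfin.subset fun p (hp : p.IsPrime ∧ p ≠ maximalIdeal R) => hp.1).to_subtype
  cases nonempty_fintype P
  choose b hbm hb using fun p : P => h p.1 p.2.1 p.2.2
  let c : Option P → R := fun o => o.elim 0 b
  have hc : ∀ o, c o ∈ maximalIdeal R := fun o => by cases o <;> simp [c, hbm]
  have hnil : IsNilpotent (∏ o, (z - c o * a)) := by
    rw [← mem_nilradical, nilradical_eq_sInf]
    refine Submodule.mem_sInf.2 fun p (hp : Ideal.IsPrime p) => ?_
    by_cases hpm : p = maximalIdeal R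
    · exact Ideal.prod_mem p (Finset.mem_univ none) (by simpa [c, hpm] using hz)
    · exact Ideal.prod_mem (I := p) (i := some ⟨p, hp, hpm⟩) (Finset.mem_univ _) (hb ⟨p, hp, hpm⟩)
  obtain ⟨r, hr⟩ := hnil
  have hr0 : r ≠ 0 := fun h0 => one_ne_zero (α := R) (by simp [h0] at hr)
  have hr' : (∏ q ∈ (Finset.univ : Finset (Option P)) ×ˢ Finset.range r, (z - c q.1 * a)) = 0 := by
    rw [Finset.prod_product]
    simp only [Finset.prod_const, Finset.card_range, Finset.prod_pow]
    exact hr
  set s := (Finset.univ : Finset (Option P)) ×ˢ Finset.range r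
  have hd : 0 < s.card := by
    simp only [s, Finset.card_product, Finset.card_range, Finset.card_univ]
    exact Nat.mul_pos Fintype.card_pos (Nat.pos_of_ne_zero hr0)
  set d := s.card
  set m := maximalIdeal R
  set S := Ideal.span {z} ⊔ Ideal.span {a} with hS
  have h1 : Ideal.span {z} ^ d ≤ Ideal.span {a} * m * S ^ (d - 1) := by
    rw [Ideal.span_singleton_pow, Ideal.span_singleton_le_iff_mem]
    have := prod_sub_mem z a (fun q : Option P × ℕ => c q.1) (fun q => hc q.1) s
    rw [hr', zero_sub] at this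
    exact Ideal.neg_mem_iff _ |>.1 this
  have h2 : ∀ n, S ^ n ≤ Ideal.span {z} ^ n ⊔ Ideal.span {a} * S ^ (n - 1) := by
    intro n
    induction n with
    | zero => simp
    | succ n ih =>
      rcases Nat.eq_zero_or_pos n with rfl | hn
      · simp [hS]
      rw [Nat.add_sub_cancel, pow_succ, hS, Ideal.mul_sup, ← hS]
      refine sup_le ((Ideal.mul_mono_left ih).trans ?_) (le_sup_of_le_right (by rw [mul_comm]))
      rw [Ideal.sup_mul, ← pow_succ]
      refine sup_le_sup le_rfl ?_
      rw [mul_assoc]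
      refine Ideal.mul_mono_right ((Ideal.mul_mono_right (le_sup_left (b := Ideal.span {a}))).trans ?_)
      rw [← hS, ← pow_succ, Nat.sub_add_cancel hn]
  have h3 : S ^ d ≤ Ideal.span {a} * S ^ (d - 1) :=
    (h2 d).trans (sup_le (h1.trans (Ideal.mul_mono_left Ideal.mul_le_left)) le_rfl)
  have h4 : ∀ i, S ^ (d - 1 + i) ≤ Ideal.span {a} ^ i := by
    intro i
    refine (show S ^ (d - 1 + i) ≤ Ideal.span {a} ^ i * S ^ (d - 1) from ?_).trans Ideal.mul_le_left
    induction i with
    | zero => simp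
    | succ i ih =>
      rw [← add_assoc, pow_succ S]
      refine (Ideal.mul_mono_left ih).trans ?_
      rw [mul_assoc, ← pow_succ, Nat.sub_add_cancel hd, pow_succ (Ideal.span {a}) i, mul_assoc]
      exact Ideal.mul_mono_right h3
  have h5 : Ideal.span {z} ^ d ≤ m * S ^ d := by
    refine h1.trans ?_
    rw [mul_comm (Ideal.span {a}) m, mul_assoc]
    refine Ideal.mul_mono_right ?_
    rw [show d = (d - 1) + 1 by omega, pow_succ', Nat.add_sub_cancel]
    exact Ideal.mul_mono_left le_sup_right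
  obtain ⟨k, hk⟩ : ∃ k, m ^ k ≤ Ideal.span {a} ^ (d - 1) := by
    refine Ideal.exists_pow_le_of_le_radical_of_fg ?_ (IsNoetherian.noetherian _)
    rw [Ideal.radical_eq_sInf]
    refine le_sInf fun p ⟨hle, hp⟩ => (ha p hp ?_).ge
    exact (Ideal.span_singleton_le_iff_mem p).1 fun x hx => Ideal.IsPrime.mem_of_pow_mem hp _
      (hle (Ideal.pow_mem_pow hx (d - 1)))
  let N := d * (k + 1)
  have hN : d - 1 ≤ N := le_trans (by omega) (Nat.le_mul_of_pos_right d k.succ_pos)
  have h6 : Ideal.span {z} ^ N ≤ m * Ideal.span {a} ^ N := by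
    rw [pow_mul]
    refine (Ideal.pow_right_mono h5 _).trans ?_
    rw [mul_pow, ← pow_mul, pow_succ' m, mul_assoc]
    refine Ideal.mul_mono_right ?_
    rw [show Ideal.span {a} ^ N = Ideal.span {a} ^ (d - 1) * Ideal.span {a} ^ (N - (d - 1)) by
      rw [← pow_add, Nat.add_sub_cancel' hN]]
    refine Ideal.mul_mono hk ?_
    conv_lhs => rw [show d * (k + 1) = d - 1 + (N - (d - 1)) from (Nat.add_sub_cancel' hN).symm]
    exact h4 _
  have h7 : z ^ N ∈ m * Ideal.span {a ^ N} := by
    rw [← Ideal.span_singleton_pow]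
    exact h6 (Ideal.pow_mem_pow (Ideal.mem_span_singleton_self z) N)
  obtain ⟨g, hg, hge⟩ := Ideal.mem_mul_span_singleton.1 h7
  exact ⟨g, hg, N, Nat.mul_pos hd k.succ_pos, hge⟩

/-- Poles at all branches give a lift of the inverse into the maximal ideal, up to a power. -/
theorem exists_inv_pow [IsNoetherianRing R] [Ring.KrullDimLE 1 R] (a t : R) (ht : t ∈ maximalIdeal R)
    (hfin : {p : Ideal R | p.IsPrime}.Finite)
    (htp : ∀ p : Ideal R, p.IsPrime → p ≠ maximalIdeal R → t ∉ p)
    (h : ∀ (p : Ideal R) [p.IsPrime], p ≠ maximalIdeal R → ∀ O : ValuationSubring (FractionRing (R ⧸ p)),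
      (∀ x, algebraMap (R ⧸ p) (FractionRing (R ⧸ p)) x ∈ O) → O ≠ ⊤ →
        algebraMap R (FractionRing (R ⧸ p)) a / algebraMap R (FractionRing (R ⧸ p)) t ∉ O) :
    ∃ g ∈ maximalIdeal R, ∃ N, 0 < N ∧ g * a ^ N = t ^ N := by
  classical
  have key : ∀ (p : Ideal R) [p.IsPrime], p ≠ maximalIdeal R → a ∉ p ∧
      ∃ n, 0 < n ∧ ∃ b ∈ maximalIdeal R, t ^ n - b * a ^ n ∈ p := by
    intro p hp hpm
    have hdim : Ring.KrullDimLE 1 (R ⧸ p) := by
      rw [Ring.KrullDimLE, Order.krullDimLE_iff]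
      exact (ringKrullDim_quotient_le p).trans ((Order.krullDimLE_iff 1 _).1 ‹Ring.KrullDimLE 1 R›)
    have hB : ¬ IsField (R ⧸ p) := fun hf =>
      hpm (IsLocalRing.eq_maximalIdeal (Ideal.Quotient.maximal_of_isField p hf))
    have hloc : IsLocalRing (R ⧸ p) :=
      IsLocalRing.of_surjective' (Ideal.Quotient.mk p) Ideal.Quotient.mk_surjective
    set K := FractionRing (R ⧸ p)
    have hmap : ∀ x : R, algebraMap (R ⧸ p) K (Ideal.Quotient.mk p x) = algebraMap R K x :=
      fun x => (IsScalarTower.algebraMap_apply R (R ⧸ p) K x).symm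
    have hker : ∀ x : R, algebraMap R K x = 0 ↔ x ∈ p := fun x => by
      rw [← hmap, IsFractionRing.to_map_eq_zero_iff, Ideal.Quotient.eq_zero_iff_mem]
    obtain ⟨n, hn, b₀, hb, hbe⟩ := VarDim1.exists_pow_inv_mem_jacobson (B := R ⧸ p) (K := K) hB
      (algebraMap R K a / algebraMap R K t) fun O hO hne => h p hpm O hO hne
    have hap : a ∉ p := by
      intro ha
      have hI : (maximalIdeal (R ⧸ p)).map (algebraMap (R ⧸ p) K).rangeRestrict ≠ ⊤ := by
        let e : (R ⧸ p) ≃+* (algebraMap (R ⧸ p) K).range := RingEquiv.ofBijective (algebraMap (R ⧸ p) K).rangeRestrict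
          ⟨fun _ _ he => IsFractionRing.injective _ K (congrArg Subtype.val he), RingHom.rangeRestrict_surjective _⟩
        exact (Ideal.map_isMaximal_of_equiv e).ne_top
      obtain ⟨V, hV⟩ : ∃ V : ValuationSubring K, (∀ x, algebraMap (R ⧸ p) K x ∈ V) ∧ V ≠ ⊤ := by
        obtain ⟨V, hV, hmV⟩ := Ideal.image_subset_nonunits_valuationSubring
          (A := (algebraMap (R ⧸ p) K).range) ((maximalIdeal (R ⧸ p)).map (algebraMap (R ⧸ p) K).rangeRestrict) hI
        · refine ⟨V, fun x => hV ⟨x, rfl⟩, fun h0 => ?_⟩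
          subst h0
          obtain ⟨x, hx, hx0⟩ := Submodule.exists_mem_ne_zero_of_ne_bot
            (Ring.ne_bot_of_isMaximal_of_not_isField (maximalIdeal.isMaximal (R ⧸ p)) hB)
          rcases (ValuationSubring.mem_nonunits_iff_or _).1
            (hmV ⟨_, Ideal.mem_map_of_mem _ hx, rfl⟩) with h1 | h1
          · exact hx0 (IsFractionRing.to_map_eq_zero_iff.1 h1)
          · exact h1 (ValuationSubring.mem_top _)
      refine h p hpm V hV.1 hV.2 ?_
      rw [(hker a).2 ha, zero_div]
      exact V.zero_mem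
    refine ⟨hap, n, hn, ?_⟩
    obtain ⟨b, rfl⟩ := Ideal.Quotient.mk_surjective b₀
    rw [hmap, div_pow, inv_div] at hbe
    refine ⟨b, ?_, ?_⟩
    · rw [IsLocalRing.jacobson_eq_maximalIdeal _ bot_ne_top, mem_maximalIdeal, mem_nonunits_iff] at hb
      exact (mem_maximalIdeal _).2 fun hu => hb (hu.map (Ideal.Quotient.mk p))
    · rw [← hker, map_sub, map_mul, map_pow, map_pow, sub_eq_zero, hbe,
        div_mul_cancel₀ _ (pow_ne_zero _ fun h0 => hap ((hker a).1 h0))]
  let P := {p : Ideal R // p.IsPrime ∧ p ≠ maximalIdeal R}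
  have hP : Finite P := (hfin.subset fun p (hp : p.IsPrime ∧ p ≠ maximalIdeal R) => hp.1).to_subtype
  cases nonempty_fintype P
  choose n hn b hbm hb using fun p : P => (@key p.1 p.2.1 p.2.2).2
  let M := ∏ p, n p
  have hM : 0 < M := Finset.prod_pos fun p _ => hn p
  obtain ⟨g, hg, N, hN, he⟩ := exists_mul_pow_eq_pow (a ^ M) (t ^ M) (Ideal.pow_mem_of_mem _ ht M hM)
    (fun p hp hap => by
      by_contra hpm
      exact (@key p hp hpm).1 (hp.mem_of_pow_mem M hap))
    hfin fun p hp hpm => by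
      let q : P := ⟨p, hp, hpm⟩
      obtain ⟨k, hk⟩ : n q ∣ M := Finset.dvd_prod_of_mem _ (Finset.mem_univ q)
      have hk0 : 0 < k := Nat.pos_of_ne_zero fun h0 => by rw [h0, mul_zero] at hk; omega
      refine ⟨b q ^ k, Ideal.pow_mem_of_mem _ (hbm q) k hk0, ?_⟩
      rw [hk, pow_mul, pow_mul, ← mul_pow]
      exact Ideal.mem_of_dvd p (sub_dvd_pow_sub_pow _ _ k) (hb q)
  exact ⟨g, hg, M * N, Nat.mul_pos hM hN, by rwa [pow_mul, pow_mul]⟩

end Integral

end Groth.Agent.Lift75.Alg
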